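import Mathlib.Data.ENat.Lattice
import Mathlib.GroupTheory.Index
import Mathlib.Algebra.BigOperators.Finprod
import Mathlib.Algebra.Order.BigOperators.Group.Finset
import Mathlib.Algebra.BigOperators.Intervals

/-!
# Herbrand's theorem, summation form

`p : Γ₂ →* Γ₁` surjective, finite, with ramification numbers `j₂`, `j₁` (values in `ℕ∞`), filtrations
`g ∈ R n ↔ n + 1 ≤ j g`, and `∑_{h ∈ ker p} j₂ (h g) = |ker p| j₁ (p g)`:

* `map_eq`: `p (R₂ n) = R₁ (t / |ker p|)` for `Ψ n ≤ t < Ψ (n + 1)`, `Ψ n = ∑_{i < n} |R₂ i ∩ ker p|`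
  (Herbrand's theorem);
* `finsum_eq`: `∑_{i ≥ 1} |R₂ i| F (p (R₂ i)) = |ker p| ∑_{i ≥ 1} |R₁ i| F (R₁ i)` for all `F` on subgroups of
  `Γ₁` with `F ⊥ = 0`.
-/

set_option autoImplicit false

namespace Groth.Agent.Vancyc.H163.HerbrandSum

variable {Γ₁ Γ₂ : Type*} [Group Γ₁] [Group Γ₂] (p : Γ₂ →* Γ₁)
  (j₁ : Γ₁ → ℕ∞) (j₂ : Γ₂ → ℕ∞) (R₁ : ℕ → Subgroup Γ₁) (R₂ : ℕ → Subgroup Γ₂)

/-- the hypotheses -/
structure Data [Fintype p.ker] : Prop where
  surj : Function.Surjective p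
  mem₁ : ∀ n g, g ∈ R₁ n ↔ ((n + 1 : ℕ) : ℕ∞) ≤ j₁ g
  mem₂ : ∀ n g, g ∈ R₂ n ↔ ((n + 1 : ℕ) : ℕ∞) ≤ j₂ g
  zero₂ : R₂ 0 = ⊤
  sum : ∀ g, ∑ h : p.ker, j₂ ((h : Γ₂) * g) = Fintype.card p.ker * j₁ (p g)

/-- `Ψ n = ∑_{i < n} |R₂ i ∩ ker p|` -/
noncomputable def Psi (n : ℕ) : ℕ := ∑ i ∈ Finset.range n, Nat.card (R₂ i ⊓ p.ker : Subgroup Γ₂)

theorem Psi_succ (n : ℕ) : Psi p R₂ (n + 1) = Psi p R₂ n + Nat.card (R₂ n ⊓ p.ker : Subgroup Γ₂) :=
  Finset.sum_range_succ _ _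

theorem Psi_mono : Monotone (Psi p R₂) := monotone_nat_of_le_succ fun n => by
  rw [Psi_succ]; exact Nat.le_add_right _ _

variable {p j₁ j₂ R₁ R₂}

namespace Data

variable [Fintype p.ker] (D : Data p j₁ j₂ R₁ R₂)

include D

theorem pos₂ (g : Γ₂) : 1 ≤ j₂ g := by
  have h : g ∈ R₂ 0 := by rw [D.zero₂]; trivial
  have := (D.mem₂ 0 g).1 h
  simpa using this

theorem min_le (g h : Γ₂) : min (j₂ g) (j₂ h) ≤ j₂ (g * h) := by
  by_contra hlt
  rw [not_le] at hlt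
  obtain ⟨n, hn⟩ := ENat.ne_top_iff_exists.1 (ne_top_of_lt hlt)
  have h1 : ((n + 1 : ℕ) : ℕ∞) ≤ min (j₂ g) (j₂ h) := by
    rw [← hn] at hlt
    have := Order.add_one_le_of_lt hlt
    exact_mod_cast this
  have hg : g ∈ R₂ n := (D.mem₂ n g).2 (h1.trans (min_le_left _ _))
  have hh : h ∈ R₂ n := (D.mem₂ n h).2 (h1.trans (min_le_right _ _))
  have h2 := (D.mem₂ n _).1 (Subgroup.mul_mem _ hg hh)
  rw [← hn] at h2
  have h3 : n + 1 ≤ n := by exact_mod_cast h2
  omega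

theorem inv_eq (g : Γ₂) : j₂ g⁻¹ = j₂ g := by
  have key : ∀ g : Γ₂, j₂ g ≤ j₂ g⁻¹ := by
    intro g
    by_contra hlt
    rw [not_le] at hlt
    obtain ⟨n, hn⟩ := ENat.ne_top_iff_exists.1 (ne_top_of_lt hlt)
    have h1 : ((n + 1 : ℕ) : ℕ∞) ≤ j₂ g := by
      rw [← hn] at hlt
      have := Order.add_one_le_of_lt hlt
      exact_mod_cast this
    have h2 := (D.mem₂ n _).1 (Subgroup.inv_mem _ ((D.mem₂ n g).2 h1))
    rw [← hn] at h2
    have h3 : n + 1 ≤ n := by exact_mod_cast h2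
    omega
  refine le_antisymm ?_ (key g)
  have := key g⁻¹
  rwa [inv_inv] at this

/-- the sum of the truncations -/
theorem sum_min (m : ℕ) : ∑ h : p.ker, min (j₂ (h : Γ₂)) (m : ℕ∞) = (Psi p R₂ m : ℕ∞) := by
  classical
  induction m with
  | zero =>
    simp [Psi]
  | succ m ih =>
    rw [Psi_succ, Nat.cast_add (Psi p R₂ m), ← ih]
    have h1 : (Nat.card (R₂ m ⊓ p.ker : Subgroup Γ₂) : ℕ∞) =
        ∑ h : p.ker, if (h : Γ₂) ∈ R₂ m then (1 : ℕ∞) else 0 := by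
      rw [Finset.sum_boole]
      have e : (R₂ m ⊓ p.ker : Subgroup Γ₂) ≃ {h : p.ker // (h : Γ₂) ∈ R₂ m} :=
        { toFun := fun x => ⟨⟨x, x.2.2⟩, x.2.1⟩
          invFun := fun y => ⟨y.1, y.2, y.1.2⟩
          left_inv := fun _ => rfl
          right_inv := fun _ => rfl }
      rw [Nat.card_congr e, Nat.card_eq_fintype_card, Fintype.card_subtype]
    rw [h1, ← Finset.sum_add_distrib]
    refine Finset.sum_congr rfl fun h _ => ?_
    by_cases hh : (h : Γ₂) ∈ R₂ m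
    · rw [if_pos hh]
      have h2 := (D.mem₂ m _).1 hh
      have h3 : (m : ℕ∞) ≤ j₂ (h : Γ₂) := le_trans (by exact_mod_cast Nat.le_succ m) h2
      rw [min_eq_right h2, min_eq_right h3]
      push_cast
      rfl
    · rw [if_neg hh, add_zero]
      have h2 : ¬ ((m + 1 : ℕ) : ℕ∞) ≤ j₂ (h : Γ₂) := fun h' => hh ((D.mem₂ m _).2 h')
      rw [not_le] at h2
      have h3 : j₂ (h : Γ₂) ≤ m := by
        have h4 : j₂ (h : Γ₂) < (m : ℕ∞) + 1 := by
          refine h2.trans_le (le_of_eq ?_)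
          push_cast
          rfl
        exact Order.lt_add_one_iff_of_not_isMax (by simp) |>.1 h4
      rw [min_eq_left h2.le, min_eq_left h3]

theorem Psi_one : Psi p R₂ 1 = Fintype.card p.ker := by
  rw [Psi, Finset.sum_range_one, D.zero₂, top_inf_eq, Nat.card_eq_fintype_card]

theorem le_of_mem_map {n : ℕ} {σ : Γ₁} (h : σ ∈ (R₂ n).map p) :
    (Psi p R₂ (n + 1) : ℕ∞) ≤ Fintype.card p.ker * j₁ σ := by
  obtain ⟨g, hg, rfl⟩ := h
  rw [← D.sum, ← D.sum_min]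
  refine Finset.sum_le_sum fun h _ => ?_
  refine le_trans ?_ (D.min_le _ _)
  exact min_le_min le_rfl ((D.mem₂ n g).1 hg)

theorem le_of_not_mem_map {n : ℕ} {σ : Γ₁} (h : σ ∉ (R₂ n).map p) :
    Fintype.card p.ker * j₁ σ ≤ (Psi p R₂ n : ℕ∞) := by
  obtain ⟨g, rfl⟩ := D.surj σ
  obtain ⟨h₀, -, hmax⟩ := Finset.exists_max_image (Finset.univ : Finset p.ker)
    (fun h => j₂ ((h : Γ₂) * g)) Finset.univ_nonempty
  set s : Γ₂ := (h₀ : Γ₂) * g with hs
  have hps : p s = p g := by rw [hs, map_mul, (MonoidHom.mem_ker).1 h₀.2, one_mul]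
  have hsn : s ∉ R₂ n := fun h' => h ⟨s, h', hps⟩
  have hmaxs : ∀ h : p.ker, j₂ ((h : Γ₂) * s) ≤ j₂ s := by
    intro h
    have := hmax (h * h₀) (Finset.mem_univ _)
    simp only [Subgroup.coe_mul, mul_assoc] at this
    exact this
  have h2 : ¬ ((n + 1 : ℕ) : ℕ∞) ≤ j₂ s := fun h' => hsn ((D.mem₂ n _).2 h')
  rw [not_le] at h2
  obtain ⟨m, hm⟩ := ENat.ne_top_iff_exists.1 (ne_top_of_lt h2)
  have hmn : m ≤ n := by
    rw [← hm] at h2
    have : m < n + 1 := by exact_mod_cast h2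
    omega
  rw [← hps, ← D.sum]
  refine le_trans ?_ (Nat.cast_le.2 (Psi_mono p R₂ hmn))
  rw [← D.sum_min]
  refine Finset.sum_le_sum fun h _ => le_min ?_ ?_
  · by_contra hlt
    rw [not_le] at hlt
    have h3 : min (j₂ ((h : Γ₂) * s)) (j₂ s⁻¹) ≤ j₂ (((h : Γ₂) * s) * s⁻¹) := D.min_le _ _
    rw [mul_inv_cancel_right, D.inv_eq] at h3
    rcases min_le_iff.1 h3 with h4 | h4
    · exact absurd h4 (not_le.2 hlt)
    · exact absurd (hmaxs h) (not_le.2 (lt_of_le_of_lt h4 hlt))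
  · rw [hm]
    exact hmaxs h

/-- Herbrand's theorem -/
theorem map_eq {n t : ℕ} (h1 : Psi p R₂ n ≤ t) (h2 : t < Psi p R₂ (n + 1)) :
    (R₂ n).map p = R₁ (t / Fintype.card p.ker) := by
  have he : 0 < Fintype.card p.ker := Fintype.card_pos
  ext σ
  have h3 : σ ∈ (R₂ n).map p ↔ ((t + 1 : ℕ) : ℕ∞) ≤ Fintype.card p.ker * j₁ σ := by
    constructor
    · intro h
      refine le_trans ?_ (D.le_of_mem_map h)
      exact_mod_cast h2
    · intro h
      by_contra hn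
      have h4 := h.trans (D.le_of_not_mem_map hn)
      have h5 : t + 1 ≤ Psi p R₂ n := by exact_mod_cast h4
      omega
  rw [h3, D.mem₁]
  induction hj : j₁ σ using ENat.recTopCoe with
  | top =>
    rw [ENat.mul_top (by exact_mod_cast he.ne')]
    simp
  | coe j =>
    rw [← Nat.cast_mul, Nat.cast_le, Nat.cast_le, Nat.succ_le_iff, Nat.succ_le_iff,
      Nat.div_lt_iff_lt_mul he, mul_comm]

section sums

variable {X : Type*} [AddCommMonoid X] (F : Subgroup Γ₁ → X)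

theorem sum_range_eq (n : ℕ) :
    ∑ i ∈ Finset.range n, Nat.card (R₂ i ⊓ p.ker : Subgroup Γ₂) • F ((R₂ i).map p) =
      ∑ t ∈ Finset.range (Psi p R₂ n), F (R₁ (t / Fintype.card p.ker)) := by
  induction n with
  | zero => simp [Psi]
  | succ n ih =>
    rw [Finset.sum_range_succ, ih, Psi_succ, Finset.sum_range_add]
    congr 1
    rw [← Finset.card_range (Nat.card (R₂ n ⊓ p.ker : Subgroup Γ₂)), ← Finset.sum_const,
      Finset.card_range]
    refine Finset.sum_congr rfl fun t ht => ?_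
    rw [D.map_eq (n := n) (t := Psi p R₂ n + t) (Nat.le_add_right _ _)]
    rw [Psi_succ]
    exact Nat.add_lt_add_left (Finset.mem_range.1 ht) _

end sums

end Data

theorem sum_range_mul {X : Type*} [AddCommMonoid X] (G : ℕ → X) {e : ℕ} (he : 0 < e) (N : ℕ) :
    ∑ t ∈ Finset.range (e * N), G (t / e) = e • ∑ j ∈ Finset.range N, G j := by
  induction N with
  | zero => simp
  | succ N ih =>
    rw [Nat.mul_succ, Finset.sum_range_add, ih, Finset.sum_range_succ, smul_add]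
    congr 1
    conv_rhs => rw [← Finset.card_range e, ← Finset.sum_const]
    refine Finset.sum_congr rfl fun t ht => ?_
    rw [Nat.mul_add_div he, Nat.div_eq_of_lt (Finset.mem_range.1 ht), add_zero]

theorem card_inf_mul_card_map (S : Subgroup Γ₂) :
    Nat.card (S ⊓ p.ker : Subgroup Γ₂) * Nat.card (S.map p) = Nat.card S := by
  have e : (S ⊓ p.ker : Subgroup Γ₂) ≃ (p.domRestrict S).ker :=
    { toFun := fun x => ⟨⟨x, x.2.1⟩, x.2.2⟩
      invFun := fun y => ⟨y.1, y.1.2, y.2⟩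
      left_inv := fun _ => rfl
      right_inv := fun _ => rfl }
  rw [Nat.card_congr e, ← Subgroup.card_mul_index (p.domRestrict S).ker, Subgroup.index_ker,
    MonoidHom.domRestrict_range]

namespace Data

variable [Fintype p.ker] (D : Data p j₁ j₂ R₁ R₂)

include D

omit D in
theorem Psi_lt (n : ℕ) : Psi p R₂ n < Psi p R₂ (n + 1) := by
  rw [Psi_succ]
  have : Finite (R₂ n ⊓ p.ker : Subgroup Γ₂) :=
    Finite.of_injective (fun x => (⟨x, x.2.2⟩ : p.ker)) fun x y h => Subtype.ext (by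
      simpa using congrArg (fun z : p.ker => (z : Γ₂)) h)
  exact Nat.lt_add_of_pos_right Nat.card_pos

omit D in
theorem exists_between (t : ℕ) : ∃ n, Psi p R₂ n ≤ t ∧ t < Psi p R₂ (n + 1) := by
  have h : ∃ n, t < Psi p R₂ (n + 1) :=
    ⟨t, lt_of_lt_of_le (Nat.lt_succ_self t) (StrictMono.id_le (strictMono_nat_of_lt_succ Psi_lt) _)⟩
  classical
  refine ⟨Nat.find h, ?_, Nat.find_spec h⟩
  rcases Nat.eq_zero_or_pos (Nat.find h) with h0 | h0
  · rw [h0]
    simp [Psi]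
  · have := Nat.find_min h (Nat.sub_lt h0 Nat.one_pos)
    rw [Nat.sub_add_cancel h0, not_lt] at this
    exact this

theorem eq_bot {n₀ : ℕ} (hbot : ∀ i, n₀ ≤ i → R₂ i = ⊥) {t : ℕ} (ht : Psi p R₂ n₀ ≤ t) :
    R₁ (t / Fintype.card p.ker) = ⊥ := by
  obtain ⟨n, h1, h2⟩ := exists_between (p := p) (R₂ := R₂) t
  rw [← D.map_eq h1 h2, hbot n, Subgroup.map_bot]
  by_contra h
  rw [not_le] at h
  exact absurd (lt_of_lt_of_le h2 (Psi_mono p R₂ h)) (not_lt.2 ht)

theorem eq_bot' {n₀ : ℕ} (hbot : ∀ i, n₀ ≤ i → R₂ i = ⊥) {j : ℕ} (hj : Psi p R₂ n₀ ≤ j) :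
    R₁ j = ⊥ := by
  have he : 0 < Fintype.card p.ker := Fintype.card_pos
  have := D.eq_bot hbot (t := Fintype.card p.ker * j)
    (hj.trans (Nat.le_mul_of_pos_left j he))
  rwa [Nat.mul_div_cancel_left _ he] at this

section sums

variable {X : Type*} [AddCommMonoid X] (F : Subgroup Γ₁ → X)

theorem sum_range_succ_eq (n : ℕ) :
    ∑ i ∈ Finset.range n, Nat.card (R₂ (i + 1) ⊓ p.ker : Subgroup Γ₂) • F ((R₂ (i + 1)).map p) =
      ∑ t ∈ Finset.range (Psi p R₂ (n + 1) - Fintype.card p.ker),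
        F (R₁ (t / Fintype.card p.ker + 1)) := by
  have he : 0 < Fintype.card p.ker := Fintype.card_pos
  induction n with
  | zero => simp [D.Psi_one]
  | succ n ih =>
    have h1 : Fintype.card p.ker ≤ Psi p R₂ (n + 1) := by
      rw [← D.Psi_one]
      exact Psi_mono p R₂ (Nat.succ_le_succ (Nat.zero_le n))
    rw [Finset.sum_range_succ, ih, Psi_succ p R₂ (n + 1), Nat.sub_add_comm h1, Finset.sum_range_add]
    congr 1
    conv_lhs => rw [← Finset.card_range (Nat.card (R₂ (n + 1) ⊓ p.ker : Subgroup Γ₂)),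
      ← Finset.sum_const]
    refine Finset.sum_congr rfl fun t ht => ?_
    have h2 := D.map_eq (n := n + 1) (t := Psi p R₂ (n + 1) + t) (Nat.le_add_right _ _) (by
      rw [Psi_succ p R₂ (n + 1)]
      exact Nat.add_lt_add_left (Finset.mem_range.1 ht) _)
    rw [h2, ← Nat.add_div_right _ he]
    congr 3
    omega

theorem finsum_eq_aux (hF : F ⊥ = 0) {n₀ : ℕ} (hbot : ∀ i, n₀ ≤ i → R₂ i = ⊥) :
    ∑ᶠ i : ℕ, Nat.card (R₂ (i + 1) ⊓ p.ker : Subgroup Γ₂) • F ((R₂ (i + 1)).map p) =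
      Fintype.card p.ker • ∑ᶠ i : ℕ, F (R₁ (i + 1)) := by
  have he : 0 < Fintype.card p.ker := Fintype.card_pos
  set N := Psi p R₂ n₀ with hN
  rw [finsum_eq_sum_of_support_subset (s := Finset.range n₀), finsum_eq_sum_of_support_subset
    (s := Finset.range N), D.sum_range_succ_eq, ← sum_range_mul (fun j => F (R₁ (j + 1))) he]
  · set A := Psi p R₂ (n₀ + 1) - Fintype.card p.ker with hA
    have hA' : Psi p R₂ (n₀ + 1) ≤ A + Fintype.card p.ker := by omega
    have hz : ∀ t, Psi p R₂ n₀ ≤ t + Fintype.card p.ker →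
        F (R₁ (t / Fintype.card p.ker + 1)) = 0 := by
      intro t ht
      rw [← Nat.add_div_right _ he, D.eq_bot hbot ht, hF]
    have h1 : ∑ t ∈ Finset.range A, F (R₁ (t / Fintype.card p.ker + 1)) =
        ∑ t ∈ Finset.range (max A (Fintype.card p.ker * N)), F (R₁ (t / Fintype.card p.ker + 1)) := by
      refine Finset.sum_subset (Finset.range_subset_range.2 (le_max_left _ _)) fun t _ ht => hz t ?_
      rw [Finset.mem_range, not_lt] at ht
      exact (Psi_lt n₀).le.trans (hA'.trans (Nat.add_le_add_right ht _))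
    have h2 : ∑ t ∈ Finset.range (Fintype.card p.ker * N), F (R₁ (t / Fintype.card p.ker + 1)) =
        ∑ t ∈ Finset.range (max A (Fintype.card p.ker * N)), F (R₁ (t / Fintype.card p.ker + 1)) := by
      refine Finset.sum_subset (Finset.range_subset_range.2 (le_max_right _ _)) fun t _ ht => hz t ?_
      rw [Finset.mem_range, not_lt] at ht
      exact (Nat.le_mul_of_pos_left N he).trans (ht.trans (Nat.le_add_right _ _))
    rw [h1, h2]
  · intro j hj
    rw [Finset.coe_range, Set.mem_Iio]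
    by_contra h
    rw [not_lt] at h
    apply hj
    change F (R₁ (j + 1)) = 0
    rw [D.eq_bot' hbot (h.trans (Nat.le_succ j)), hF]
  · intro j hj
    rw [Finset.coe_range, Set.mem_Iio]
    by_contra h
    rw [not_lt] at h
    apply hj
    change Nat.card (R₂ (j + 1) ⊓ p.ker : Subgroup Γ₂) • F ((R₂ (j + 1)).map p) = 0
    rw [hbot _ (h.trans (Nat.le_succ j)), Subgroup.map_bot, hF, smul_zero]

/-- The Swan expression is independent of the group. -/
theorem finsum_eq (hF : F ⊥ = 0) {n₀ : ℕ} (hbot : ∀ i, n₀ ≤ i → R₂ i = ⊥) :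
    ∑ᶠ i : ℕ, Nat.card (R₂ (i + 1)) • F ((R₂ (i + 1)).map p) =
      Fintype.card p.ker • ∑ᶠ i : ℕ, Nat.card (R₁ (i + 1)) • F (R₁ (i + 1)) := by
  rw [← D.finsum_eq_aux (fun P => Nat.card P • F P) (by simp [hF]) hbot]
  refine finsum_congr fun i => ?_
  rw [← card_inf_mul_card_map (p := p) (R₂ (i + 1)), mul_smul]

end sums

end Data

end Groth.Agent.Vancyc.H163.HerbrandSum
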