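import Groth.Agent.Vancyc.H163.HerbrandDVR
import Groth.Agent.Vancyc.H163.HerbrandSum

/-!
# Herbrand's theorem and the invariance of the Swan expression

For a tower `T : Tower Γ₁ Γ₂ O₁ O₂` (Galois extensions of discrete valuation rings with trivial residue extension,
`Γ₂ ↠ Γ₁`, `Γ₂` finite):

* `data`: the hypotheses of `HerbrandSum`;
* `map_ram`: Herbrand's theorem;
* `finsum_eq`: `∑_{i ≥ 1} |Γ₂,i| F (p Γ₂,i) = |ker p| ∑_{i ≥ 1} |Γ₁,i| F (Γ₁,i)` for `F ⊥ = 0`;
* `finprod_eq`: the multiplicative form;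
* `swanProd_eq`: the form with invariants of a finite module, as in S4182;
* `ram_eq_of_approx`: the ramification groups do not change under henselisation or completion.
-/

set_option autoImplicit false

namespace Groth.Agent.Vancyc.H163.Herbrand

open IsLocalRing IsDiscreteValuationRing Groth.Agent.Sga5.H833.RamAlg RamDVR HerbrandDVR

theorem ofMul_finprod {ι X : Type*} [CommMonoid X] (f : ι → X) :
    Additive.ofMul (∏ᶠ i, f i) = ∑ᶠ i, Additive.ofMul (f i) := by
  classical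
  rw [finprod_def, finsum_def]
  by_cases h : Function.HasFiniteMulSupport f
  · have h' : Function.HasFiniteSupport (fun i => Additive.ofMul (f i)) := h
    rw [dif_pos h, dif_pos h']
    rfl
  · have h' : ¬ Function.HasFiniteSupport (fun i => Additive.ofMul (f i)) := h
    rw [dif_neg h, dif_neg h']
    rfl

section tower

variable {Γ₁ Γ₂ O₁ O₂ : Type*} [Group Γ₁] [Group Γ₂] [CommRing O₁] [CommRing O₂]
  [IsDomain O₁] [IsDiscreteValuationRing O₁] [IsDomain O₂] [IsDiscreteValuationRing O₂]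
  (T : Tower Γ₁ Γ₂ O₁ O₂)

theorem data [Fintype T.p.ker] {π : O₂} (hπ : Irreducible π) {π₁ : O₁} (hπ₁ : Irreducible π₁) :
    HerbrandSum.Data T.p (fun σ => addVal O₁ (T.A₁.φ σ π₁ - π₁))
      (fun g => addVal O₂ (T.A₂.φ g π - π)) T.A₁.ram T.A₂.ram where
  surj := T.surj
  mem₁ _ _ := mem_ram_iff T.A₁ T.res₁ hπ₁
  mem₂ _ _ := mem_ram_iff T.A₂ T.res hπ
  zero₂ := by
    rw [eq_top_iff]
    intro g _
    exact mem_ram_zero T.A₂ T.res g
  sum g := T.prop3 hπ hπ₁ g

omit [IsDomain O₁] [IsDiscreteValuationRing O₁] in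
theorem exists_ram_eq_bot [Finite Γ₂] : ∃ n₀, ∀ i, n₀ ≤ i → T.A₂.ram i = ⊥ := by
  classical
  have := Fintype.ofFinite Γ₂
  have h1 : ∀ g : Γ₂, ∃ n : ℕ, g ≠ 1 → g ∉ T.A₂.ram n := by
    intro g
    by_cases hg : g = 1
    · exact ⟨0, fun h => absurd hg h⟩
    · obtain ⟨e, -, he⟩ := exists_diffIdeal_eq T.A₂ (g := g) fun h => hg (T.faithful g h)
      exact ⟨e, fun _ h => lt_irrefl e ((he e).1 h)⟩
  choose n hn using h1
  refine ⟨Finset.univ.sup n, fun i hi => ?_⟩
  rw [eq_bot_iff]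
  intro g hg
  by_contra hne
  exact hn g hne (T.A₂.ram_antitone ((Finset.le_sup (Finset.mem_univ g)).trans hi) hg)

/-- Herbrand's theorem -/
theorem map_ram [Fintype T.p.ker] {n t : ℕ} (h1 : HerbrandSum.Psi T.p T.A₂.ram n ≤ t)
    (h2 : t < HerbrandSum.Psi T.p T.A₂.ram (n + 1)) :
    (T.A₂.ram n).map T.p = T.A₁.ram (t / Fintype.card T.p.ker) := by
  obtain ⟨π, hπ⟩ := exists_irreducible O₂
  obtain ⟨π₁, hπ₁⟩ := exists_irreducible O₁
  exact (data T hπ hπ₁).map_eq h1 h2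

theorem finsum_eq [Finite Γ₂] {X : Type*} [AddCommMonoid X] (F : Subgroup Γ₁ → X) (hF : F ⊥ = 0) :
    ∑ᶠ i : ℕ, Nat.card (T.A₂.ram (i + 1)) • F ((T.A₂.ram (i + 1)).map T.p) =
      Nat.card T.p.ker • ∑ᶠ i : ℕ, Nat.card (T.A₁.ram (i + 1)) • F (T.A₁.ram (i + 1)) := by
  classical
  have := Fintype.ofFinite T.p.ker
  obtain ⟨π, hπ⟩ := exists_irreducible O₂
  obtain ⟨π₁, hπ₁⟩ := exists_irreducible O₁
  obtain ⟨n₀, hn₀⟩ := exists_ram_eq_bot T
  rw [(data T hπ hπ₁).finsum_eq F hF hn₀, Nat.card_eq_fintype_card]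

theorem finprod_eq [Finite Γ₂] {X : Type*} [CommMonoid X] (F : Subgroup Γ₁ → X) (hF : F ⊥ = 1) :
    ∏ᶠ i : ℕ, F ((T.A₂.ram (i + 1)).map T.p) ^ Nat.card (T.A₂.ram (i + 1)) =
      (∏ᶠ i : ℕ, F (T.A₁.ram (i + 1)) ^ Nat.card (T.A₁.ram (i + 1))) ^ Nat.card T.p.ker := by
  have := finsum_eq T (X := Additive X) (fun P => Additive.ofMul (F P)) (by rw [hF]; rfl)
  apply Additive.ofMul.injective
  rw [ofMul_finprod, ofMul_pow, ofMul_finprod]
  exact this

/-- the invariants of a subset under a family of self-maps -/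
def invts {Γ M : Type*} (act : Γ → M → M) (S : Set Γ) : Set M := {m | ∀ g ∈ S, act g m = m}

/-- The form with invariants of a finite module. -/
theorem finprod_invts_eq [Finite Γ₂] {M : Type*} [Finite M] [Nonempty M] (act : Γ₁ → M → M)
    (h1 : ∀ m, act 1 m = m) :
    ∏ᶠ i : ℕ, (Nat.card M / Nat.card (invts (fun g : Γ₂ => act (T.p g))
        (T.A₂.ram (i + 1) : Set Γ₂))) ^ Nat.card (T.A₂.ram (i + 1)) =
      (∏ᶠ i : ℕ, (Nat.card M / Nat.card (invts act (T.A₁.ram (i + 1) : Set Γ₁))) ^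
        Nat.card (T.A₁.ram (i + 1))) ^ Nat.card T.p.ker := by
  have h2 : Nat.card M / Nat.card (invts act ((⊥ : Subgroup Γ₁) : Set Γ₁)) = 1 := by
    have h3 : invts act ((⊥ : Subgroup Γ₁) : Set Γ₁) = Set.univ := by
      ext m
      refine ⟨fun _ => trivial, fun _ g hg => ?_⟩
      rw [Subgroup.mem_bot.1 hg]
      exact h1 m
    rw [h3, Nat.card_univ, Nat.div_self Nat.card_pos]
  rw [← finprod_eq T (fun P => Nat.card M / Nat.card (invts act (P : Set Γ₁))) h2]
  refine finprod_congr fun i => ?_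
  have h4 : invts (fun g : Γ₂ => act (T.p g)) (T.A₂.ram (i + 1) : Set Γ₂) =
      invts act (((T.A₂.ram (i + 1)).map T.p : Subgroup Γ₁) : Set Γ₁) := by
    ext m
    constructor
    · rintro h _ ⟨g, hg, rfl⟩
      exact h g hg
    · intro h g hg
      exact h (T.p g) ⟨g, hg, rfl⟩
  rw [h4]

omit [IsDomain O₁] [IsDiscreteValuationRing O₁] in
theorem card_eq [Finite Γ₂] : Nat.card Γ₂ = Nat.card T.p.ker * Nat.card Γ₁ := by
  rw [← Subgroup.card_mul_index T.p.ker, Subgroup.index_ker,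
    MonoidHom.range_eq_top.2 T.surj, Nat.card_congr (Subgroup.topEquiv (G := Γ₁)).toEquiv]

end tower

section compare

variable {Γ O O' : Type*} [Group Γ] [CommRing O] [IsLocalRing O] [CommRing O'] [IsLocalRing O']

/-- The ramification groups do not change under a map which is an isomorphism modulo all powers of the maximal
ideals (henselisation, completion). -/
theorem ram_eq_of_approx (A : CAct Γ O) (A' : CAct Γ O') (i : O →+* O')
    (hi : ∀ g a, A'.φ g (i a) = i (A.φ g a)) (n : ℕ)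
    (h1 : ∀ a, i a ∈ maximalIdeal O' ^ (n + 1) ↔ a ∈ maximalIdeal O ^ (n + 1))
    (h2 : ∀ b, ∃ a, b - i a ∈ maximalIdeal O' ^ (n + 1)) : A'.ram n = A.ram n := by
  ext g
  rw [A'.mem_ram, A.mem_ram]
  constructor
  · intro h a
    have := h (i a)
    rwa [hi, ← map_sub, h1] at this
  · intro h b
    obtain ⟨a, ha⟩ := h2 b
    have h3 : A'.φ g b - b = A'.φ g (b - i a) - (b - i a) + i (A.φ g a - a) := by
      rw [map_sub, map_sub, hi]
      ring
    rw [h3]
    refine Submodule.add_mem _ (Submodule.sub_mem _ (A'.map_pow_mem g _ ha) ha) ?_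
    exact (h1 _).2 (h a)

end compare

end Groth.Agent.Vancyc.H163.Herbrand
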