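import Groth.Agent.Vancyc.H163.RamDVR

/-!
# Ramification numbers in a quotient (Serre, Corps locaux, IV, Prop. 3)

`Tower Γ₁ Γ₂ O₁ O₂`: discrete valuation rings `O₁ → O₂`, groups `Γ₂ ↠ Γ₁` acting (contravariantly) on `O₂`,
`O₁`, with `O₁` = invariants of the kernel, `Γ₂` acting faithfully and `O₂ = O₂^{Γ₂} + m₂`.

* `addVal_i_uniformizer`: `v₂(i π₁) = |ker p|`;
* `prop3`: `∑_{h ∈ ker p} v₂(φ (h g) π - π) = |ker p| v₁(φ (p g) π₁ - π₁)`.
-/

set_option autoImplicit false

namespace Groth.Agent.Vancyc.H163.HerbrandDVR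

open IsLocalRing IsDiscreteValuationRing Groth.Agent.Sga5.H833.RamAlg RamDVR Polynomial

/-- a Galois tower of discrete valuation rings with trivial residue extension -/
structure Tower (Γ₁ Γ₂ O₁ O₂ : Type*) [Group Γ₁] [Group Γ₂] [CommRing O₁] [CommRing O₂]
    [IsLocalRing O₂] where
  A₁ : CAct Γ₁ O₁
  A₂ : CAct Γ₂ O₂
  p : Γ₂ →* Γ₁
  i : O₁ →+* O₂
  surj : Function.Surjective p
  comm : ∀ g a, A₂.φ g (i a) = i (A₁.φ (p g) a)
  faithful : ∀ g, A₂.φ g = RingHom.id O₂ → g = 1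
  inv : ∀ b, (∀ g, p g = 1 → A₂.φ g b = b) → ∃ a, i a = b
  inj : Function.Injective i
  res : Res A₂

namespace Tower

variable {Γ₁ Γ₂ O₁ O₂ : Type*} [Group Γ₁] [Group Γ₂] [CommRing O₁] [CommRing O₂]
  [IsDomain O₁] [IsDiscreteValuationRing O₁] [IsDomain O₂] [IsDiscreteValuationRing O₂]
  (T : Tower Γ₁ Γ₂ O₁ O₂)

omit [IsDomain O₁] [IsDiscreteValuationRing O₁] in
theorem φ_i {g : Γ₂} (hg : T.p g = 1) (a : O₁) : T.A₂.φ g (T.i a) = T.i a := by
  rw [T.comm, hg, T.A₁.one, RingHom.id_apply]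

omit [IsDomain O₁] [IsDiscreteValuationRing O₁] in
theorem isUnit_of_map {a : O₁} (h : IsUnit (T.i a)) : IsUnit a := by
  obtain ⟨b, hb⟩ := h.exists_right_inv
  obtain ⟨a', ha'⟩ := T.inv b fun g hg => by
    have h1 := congrArg (T.A₂.φ g) hb
    rw [map_mul, map_one, T.φ_i hg, ← hb] at h1
    exact mul_left_cancel₀ h.ne_zero h1
  refine IsUnit.of_mul_eq_one a' (T.inj ?_)
  rw [map_mul, ha', hb, map_one]

theorem i_mem {a : O₁} : T.i a ∈ maximalIdeal O₂ ↔ a ∈ maximalIdeal O₁ := by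
  rw [mem_maximalIdeal, mem_maximalIdeal, mem_nonunits_iff, mem_nonunits_iff, not_iff_not]
  exact ⟨T.isUnit_of_map, fun h => h.map T.i⟩

theorem res₁ : Res T.A₁ := by
  intro b
  obtain ⟨c, hc, hb⟩ := T.res (T.i b)
  obtain ⟨a, rfl⟩ := T.inv c fun g _ => hc g
  refine ⟨a, fun g => ?_, ?_⟩
  · obtain ⟨g, rfl⟩ := T.surj g
    apply T.inj
    rw [← T.comm, hc]
  · rw [← map_sub] at hb
    exact T.i_mem.1 hb

omit [IsDomain O₁] [IsDiscreteValuationRing O₁] in
/-- the ramification index -/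
theorem exists_e {π₁ : O₁} (hπ₁ : Irreducible π₁) :
    ∃ e : ℕ, 0 < e ∧ addVal O₂ (T.i π₁) = e := by
  have h0 : T.i π₁ ≠ 0 := fun h => hπ₁.ne_zero (T.inj (h.trans (map_zero _).symm))
  obtain ⟨e, he⟩ := ENat.ne_top_iff_exists.1 (fun h => h0 (addVal_eq_top_iff.1 h))
  refine ⟨e, Nat.pos_of_ne_zero ?_, he.symm⟩
  rintro rfl
  have h1 : addVal O₂ (T.i π₁) = 0 := he.symm
  rw [addVal_eq_zero_iff] at h1
  exact hπ₁.not_isUnit (T.isUnit_of_map h1)

theorem addVal_i {π₁ : O₁} (hπ₁ : Irreducible π₁) {e : ℕ} (he : addVal O₂ (T.i π₁) = e) (a : O₁) :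
    addVal O₂ (T.i a) = e * addVal O₁ a := by
  by_cases ha : a = 0
  · subst ha
    rw [map_zero, addVal_zero, addVal_zero]
    obtain ⟨e', he0, he'⟩ := T.exists_e hπ₁
    have : (e : ℕ∞) ≠ 0 := by
      rw [← he, he']
      exact_mod_cast he0.ne'
    rw [ENat.mul_top this]
  · obtain ⟨n, u, rfl⟩ := eq_unit_mul_pow_irreducible ha hπ₁
    have h1 : addVal O₂ (T.i (u : O₁)) = 0 := addVal_eq_zero_iff.2 (u.isUnit.map T.i)
    have h2 : addVal O₁ (u : O₁) = 0 := addVal_eq_zero_iff.2 u.isUnit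
    rw [map_mul, map_pow, addVal_mul, addVal_mul, addVal_pow, addVal_pow, he, addVal_uniformizer hπ₁,
      h1, h2, zero_add, zero_add, nsmul_eq_mul, nsmul_eq_mul, mul_one, mul_comm]

section finite

variable [Fintype T.p.ker]

omit [IsDomain O₁] [IsDiscreteValuationRing O₁] in
theorem prod_φ_eq {π : O₂} {g : Γ₂} (hg : T.p g = 1) :
    T.A₂.φ g (∏ h : T.p.ker, T.A₂.φ h π) = ∏ h : T.p.ker, T.A₂.φ h π := by
  rw [map_prod]
  refine Fintype.prod_equiv (Equiv.mulRight (⟨g, hg⟩ : T.p.ker)) _ _ fun h => ?_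
  change _ = T.A₂.φ ((h : Γ₂) * g) π
  rw [T.A₂.mul]
  rfl

theorem e_le {π₁ : O₁} (hπ₁ : Irreducible π₁) {e : ℕ} (he : addVal O₂ (T.i π₁) = e) :
    e ≤ Fintype.card T.p.ker := by
  obtain ⟨π, hπ⟩ := exists_irreducible O₂
  obtain ⟨a, ha⟩ := T.inv (∏ h : T.p.ker, T.A₂.φ h π) fun g hg => T.prod_φ_eq hg
  have h1 : addVal O₂ (∏ h : T.p.ker, T.A₂.φ h π) = (Fintype.card T.p.ker : ℕ∞) := by
    have h2 : ∀ s : Finset T.p.ker, addVal O₂ (∏ h ∈ s, T.A₂.φ h π) = (s.card : ℕ∞) := by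
      intro s
      induction s using Finset.cons_induction with
      | empty => rw [Finset.prod_empty, addVal_one, Finset.card_empty, Nat.cast_zero]
      | cons h s hs ih =>
        rw [Finset.prod_cons, addVal_mul, ih, addVal_φ, addVal_uniformizer hπ, Finset.card_cons,
          Nat.cast_add, Nat.cast_one, add_comm]
    exact h2 Finset.univ
  rw [← ha, T.addVal_i hπ₁ he] at h1
  have ha0 : addVal O₁ a ≠ 0 := by
    intro h
    rw [h, mul_zero] at h1
    exact (Fintype.card_pos (α := T.p.ker)).ne' (by exact_mod_cast h1.symm)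
  have h2 : (e : ℕ∞) * 1 ≤ e * addVal O₁ a := by
    gcongr
    exact Order.one_le_iff_ne_zero.2 ha0
  rw [h1, mul_one] at h2
  exact_mod_cast h2

omit [Fintype T.p.ker] [IsDomain O₁] [IsDiscreteValuationRing O₁] in
/-- approximation over the subring -/
theorem approx_i {π : O₂} (hπ : Irreducible π) {π₁ : O₁} (hπ₁ : Irreducible π₁) {e : ℕ}
    (he : addVal O₂ (T.i π₁) = e) (N : ℕ) (b : O₂) :
    ∃ c : ℕ → O₁, b - ∑ j ∈ Finset.range e, T.i (c j) * π ^ j ∈ maximalIdeal O₂ ^ N := by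
  have h0 : 0 < e := by
    obtain ⟨e', h0, he'⟩ := T.exists_e hπ₁
    rw [he'] at he
    have : e' = e := by exact_mod_cast he
    rwa [← this]
  have hdvd : ∀ {a : O₂}, a ∈ maximalIdeal O₂ ^ e → ∃ a', a = T.i π₁ * a' := by
    intro a ha
    rw [mem_pow_iff, ← he, addVal_le_iff_dvd] at ha
    exact ha
  have hmem : T.i π₁ ∈ maximalIdeal O₂ ^ e := by
    rw [mem_pow_iff, he]
  induction N generalizing b with
  | zero => exact ⟨fun _ => 0, by rw [pow_zero, Ideal.one_eq_top]; trivial⟩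
  | succ N ih =>
    obtain ⟨c, hc, hb⟩ := approx T.A₂ T.res hπ e b
    obtain ⟨b', hb'⟩ := hdvd hb
    obtain ⟨c', hc'⟩ := ih b'
    choose d hd using fun j => T.inv (c j) fun g _ => hc j g
    refine ⟨fun j => d j + π₁ * c' j, ?_⟩
    have h1 : b - ∑ j ∈ Finset.range e, T.i (d j + π₁ * c' j) * π ^ j =
        T.i π₁ * (b' - ∑ j ∈ Finset.range e, T.i (c' j) * π ^ j) := by
      rw [mul_sub, ← hb', Finset.mul_sum, sub_sub, ← Finset.sum_add_distrib]
      congr 1
      refine Finset.sum_congr rfl fun j _ => ?_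
      rw [map_add, map_mul, hd]
      ring
    rw [h1]
    have h2 : T.i π₁ ∈ maximalIdeal O₂ ^ 1 := Ideal.pow_le_pow_right h0 hmem
    have h3 : T.i π₁ * (b' - ∑ j ∈ Finset.range e, T.i (c' j) * π ^ j) ∈
        maximalIdeal O₂ ^ 1 * maximalIdeal O₂ ^ N := Ideal.mul_mem_mul h2 hc'
    rwa [← pow_add, add_comm] at h3

omit [IsDomain O₁] [IsDiscreteValuationRing O₁] in
theorem le_e {π₁ : O₁} (hπ₁ : Irreducible π₁) {e : ℕ} (he : addVal O₂ (T.i π₁) = e) :
    Fintype.card T.p.ker ≤ e := by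
  classical
  by_contra hlt
  rw [not_le] at hlt
  obtain ⟨π, hπ⟩ := exists_irreducible O₂
  let σ : T.p.ker ≃ Fin (Fintype.card T.p.ker) := Fintype.equivFin _
  let M : Matrix T.p.ker T.p.ker O₂ := fun x h =>
    if (σ x : ℕ) < e then T.A₂.φ h (π ^ (σ x : ℕ)) else 0
  have hdet : M.det = 0 := by
    refine Matrix.det_eq_zero_of_row_eq_zero (σ.symm ⟨e, hlt⟩) fun h => ?_
    simp [M]
  obtain ⟨w, hw0, hw⟩ := Matrix.exists_mulVec_eq_zero_iff.2 hdet
  have hw' : ∀ j < e, ∑ h : T.p.ker, T.A₂.φ h (π ^ j) * w h = 0 := by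
    intro j hj
    have h1 := congrFun hw (σ.symm ⟨j, hj.trans hlt⟩)
    simp only [Matrix.mulVec, dotProduct, M, Equiv.apply_symm_apply, hj, if_true, Pi.zero_apply] at h1
    exact h1
  have key : ∀ b : O₂, ∑ h : T.p.ker, w h * T.A₂.φ h b = 0 := by
    intro b
    have h1 : ∀ N : ℕ, ∑ h : T.p.ker, w h * T.A₂.φ h b ∈ maximalIdeal O₂ ^ N := by
      intro N
      obtain ⟨c, hc⟩ := T.approx_i hπ hπ₁ he N b
      have h2 : ∑ h : T.p.ker, w h * T.A₂.φ h (∑ j ∈ Finset.range e, T.i (c j) * π ^ j) = 0 := by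
        simp only [map_sum, Finset.mul_sum]
        rw [Finset.sum_comm]
        refine Finset.sum_eq_zero fun j hj => ?_
        have h3 : ∀ h : T.p.ker, w h * T.A₂.φ h (T.i (c j) * π ^ j) =
            T.i (c j) * (T.A₂.φ h (π ^ j) * w h) := by
          intro h
          rw [map_mul, T.φ_i h.2]
          ring
        rw [Finset.sum_congr rfl fun h _ => h3 h, ← Finset.mul_sum, hw' j (Finset.mem_range.1 hj),
          mul_zero]
      have h4 : ∑ h : T.p.ker, w h * T.A₂.φ h b =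
          ∑ h : T.p.ker, w h * T.A₂.φ h (b - ∑ j ∈ Finset.range e, T.i (c j) * π ^ j) := by
        rw [← sub_eq_zero, ← Finset.sum_sub_distrib]
        rw [← h2]
        refine Finset.sum_congr rfl fun h _ => ?_
        rw [map_sub]
        ring
      rw [h4]
      exact Ideal.sum_mem _ fun h _ => Ideal.mul_mem_left _ _ (T.A₂.map_pow_mem _ N hc)
    have h5 := dvd_of_forall (a := ∑ h : T.p.ker, w h * T.A₂.φ h b) (b := 0) fun N =>
      Submodule.mem_sup_right (h1 N)
    exact zero_dvd_iff.1 h5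
  have hinj : Function.Injective fun h : T.p.ker => (T.A₂.φ h : O₂ →* O₂) := by
    intro h h' hh
    have h1 : T.A₂.φ (h : Γ₂) = T.A₂.φ (h' : Γ₂) := by
      ext a
      exact DFunLike.congr_fun hh a
    have h2 : T.A₂.φ ((h' : Γ₂) * (h : Γ₂)⁻¹) = RingHom.id O₂ := by
      rw [T.A₂.mul, ← h1, ← T.A₂.mul, mul_inv_cancel, T.A₂.one]
    have h3 := T.faithful _ h2
    exact Subtype.ext (mul_inv_eq_one.1 h3).symm
  have hli := (linearIndependent_monoidHom O₂ O₂).comp _ hinj
  rw [Fintype.linearIndependent_iff] at hli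
  apply hw0
  funext h
  refine hli w ?_ h
  funext b
  have := key b
  simp only [Finset.sum_apply, Pi.smul_apply, smul_eq_mul, Function.comp_apply]
  exact this

theorem addVal_i_uniformizer {π₁ : O₁} (hπ₁ : Irreducible π₁) :
    addVal O₂ (T.i π₁) = (Fintype.card T.p.ker : ℕ∞) := by
  obtain ⟨e, -, he⟩ := T.exists_e hπ₁
  rw [he, le_antisymm (T.e_le hπ₁ he) (T.le_e hπ₁ he)]

theorem addVal_i' (a : O₁) :
    addVal O₂ (T.i a) = Fintype.card T.p.ker * addVal O₁ a := by
  obtain ⟨π₁, hπ₁⟩ := exists_irreducible O₁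
  exact T.addVal_i hπ₁ (T.addVal_i_uniformizer hπ₁) a

/-- coefficients of a small combination are small -/
theorem coeff_mem {π : O₂} (hπ : Irreducible π) (M : ℕ) (r : ℕ → O₁)
    (hr : ∑ j ∈ Finset.range (Fintype.card T.p.ker), T.i (r j) * π ^ j ∈
      maximalIdeal O₂ ^ (Fintype.card T.p.ker * M)) (j : ℕ) (hj : j < Fintype.card T.p.ker) :
    r j ∈ maximalIdeal O₁ ^ M := by
  obtain ⟨π₁, hπ₁⟩ := exists_irreducible O₁
  have he := T.addVal_i_uniformizer hπ₁
  set e := Fintype.card T.p.ker with hedef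
  have hdvd : ∀ {a : O₂}, T.i π₁ ∣ a ↔ a ∈ maximalIdeal O₂ ^ e := by
    intro a
    rw [mem_pow_iff, ← he, addVal_le_iff_dvd]
  -- the crucial case
  have key : ∀ r : ℕ → O₁, ∑ j ∈ Finset.range e, T.i (r j) * π ^ j ∈ maximalIdeal O₂ ^ e →
      ∀ j < e, r j ∈ maximalIdeal O₁ := by
    intro r hr j
    induction j using Nat.strong_induction_on with
    | _ j ih =>
      intro hj
      by_contra hu
      have hun : IsUnit (r j) := by
        rwa [mem_maximalIdeal, mem_nonunits_iff, not_not] at hu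
      have h1 : ∑ i ∈ Finset.range e, T.i (r i) * π ^ i ∈ maximalIdeal O₂ ^ (j + 1) :=
        Ideal.pow_le_pow_right hj hr
      have hπm : π ∈ maximalIdeal O₂ := (mem_maximalIdeal _).2 hπ.not_isUnit
      have h2 : ∑ i ∈ (Finset.range e).erase j, T.i (r i) * π ^ i ∈ maximalIdeal O₂ ^ (j + 1) := by
        refine Ideal.sum_mem _ fun i hi => ?_
        rw [Finset.mem_erase, Finset.mem_range] at hi
        rcases lt_or_gt_of_ne hi.1 with hlt | hgt
        · have h3 := ih i hlt hi.2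
          rw [hπ₁.maximalIdeal_eq, Ideal.mem_span_singleton] at h3
          obtain ⟨a, ha⟩ := h3
          have h4 : T.i π₁ ∣ T.i (r i) * π ^ i := by
            rw [ha, map_mul, mul_assoc]
            exact dvd_mul_right _ _
          exact Ideal.pow_le_pow_right hj (hdvd.1 h4)
        · exact Ideal.mul_mem_left _ _
            (Ideal.pow_le_pow_right (Nat.succ_le_of_lt hgt) (Ideal.pow_mem_pow hπm i))
      rw [← Finset.add_sum_erase _ _ (Finset.mem_range.2 hj)] at h1
      have h5 := (Submodule.add_mem_iff_left _ h2).1 h1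
      have h6 : π ^ j ∈ maximalIdeal O₂ ^ (j + 1) :=
        (Ideal.unit_mul_mem_iff_mem _ (hun.map T.i)).1 h5
      rw [mem_pow_iff, hπ.addVal_pow] at h6
      have h7 : j + 1 ≤ j := by exact_mod_cast h6
      omega
  have h0 : 0 < e := Fintype.card_pos
  induction M generalizing r j with
  | zero => rw [pow_zero, Ideal.one_eq_top]; trivial
  | succ M ih =>
    have hrj := key r (Ideal.pow_le_pow_right (by nlinarith) hr)
    have h1 : ∃ r' : ℕ → O₁, ∀ j < e, r j = π₁ * r' j := by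
      have h2 : ∀ j, ∃ a, j < e → r j = π₁ * a := by
        intro j
        by_cases hj : j < e
        · have := hrj j hj
          rw [hπ₁.maximalIdeal_eq, Ideal.mem_span_singleton] at this
          obtain ⟨a, ha⟩ := this
          exact ⟨a, fun _ => ha⟩
        · exact ⟨0, fun h => absurd h hj⟩
      choose r' hr' using h2
      exact ⟨r', hr'⟩
    obtain ⟨r', hr'⟩ := h1
    have h3 : ∑ j ∈ Finset.range e, T.i (r j) * π ^ j =
        T.i π₁ * ∑ j ∈ Finset.range e, T.i (r' j) * π ^ j := by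
      rw [Finset.mul_sum]
      refine Finset.sum_congr rfl fun j hj => ?_
      rw [hr' j (Finset.mem_range.1 hj), map_mul, mul_assoc]
    have h4 : ∑ j ∈ Finset.range e, T.i (r' j) * π ^ j ∈ maximalIdeal O₂ ^ (e * M) := by
      rw [h3, mem_pow_iff, addVal_mul, he] at hr
      rw [mem_pow_iff]
      have h5 : (e : ℕ∞) + ((e * M : ℕ) : ℕ∞) ≤
          e + addVal O₂ (∑ j ∈ Finset.range e, T.i (r' j) * π ^ j) := by
        refine le_trans (le_of_eq ?_) hr
        push_cast
        ring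
      exact (ENat.add_le_add_iff_left (ENat.natCast_ne_top e)).1 h5
    rw [hr' j hj, pow_succ', hπ₁.maximalIdeal_eq]
    refine Ideal.mul_mem_mul (Ideal.mem_span_singleton_self π₁) ?_
    have := ih r' j h4 hj
    rwa [hπ₁.maximalIdeal_eq] at this

omit [IsDomain O₁] [IsDiscreteValuationRing O₁] in
/-- the polynomial with roots the conjugates of `π` under the kernel -/
theorem exists_poly (π : O₂) : ∃ F : O₁[X], F.Monic ∧ F.natDegree = Fintype.card T.p.ker ∧
    F.map T.i = ∏ h : T.p.ker, (X - C (T.A₂.φ h π)) := by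
  have hmon : (∏ h : T.p.ker, (X - C (T.A₂.φ h π))).Monic :=
    monic_prod_of_monic _ _ fun h _ => monic_X_sub_C _
  have hl : (∏ h : T.p.ker, (X - C (T.A₂.φ h π))) ∈ Polynomial.lifts T.i := by
    rw [lifts_iff_coeff_lifts]
    intro n
    refine T.inv _ fun g hg => ?_
    rw [← coeff_map, Polynomial.map_prod]
    congr 1
    refine Fintype.prod_equiv (Equiv.mulRight (⟨g, hg⟩ : T.p.ker)) _ _ fun h => ?_
    change _ = X - C (T.A₂.φ ((h : Γ₂) * g) π)
    rw [T.A₂.mul, Polynomial.map_sub, map_X, map_C]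
    rfl
  obtain ⟨F, hF, hdeg, hFm⟩ := lifts_and_natDegree_eq_and_monic hl hmon
  refine ⟨F, hFm, ?_, hF⟩
  rw [hdeg, natDegree_prod_of_monic _ _ fun h _ => monic_X_sub_C _]
  simp

omit [IsDomain O₁] [IsDiscreteValuationRing O₁] in
theorem eval_map_σ (π : O₂) {F : O₁[X]} (hF : F.map T.i = ∏ h : T.p.ker, (X - C (T.A₂.φ h π)))
    (g : Γ₂) :
    ((F.map (T.A₁.φ (T.p g))).map T.i).eval π =
      ∏ h : T.p.ker, (π - T.A₂.φ ((h : Γ₂) * g) π) := by
  have h1 : (F.map (T.A₁.φ (T.p g))).map T.i = (F.map T.i).map (T.A₂.φ g) := by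
    rw [Polynomial.map_map, Polynomial.map_map]
    congr 1
    ext a
    exact (T.comm g a).symm
  rw [h1, hF, Polynomial.map_prod, eval_prod]
  refine Finset.prod_congr rfl fun h _ => ?_
  rw [T.A₂.mul, Polynomial.map_sub, map_X, map_C, eval_sub, eval_X, eval_C]
  rfl

theorem prop3_aux {π : O₂} (hπ : Irreducible π) {π₁ : O₁} (hπ₁ : Irreducible π₁) (g : Γ₂) :
    addVal O₂ (∏ h : T.p.ker, (π - T.A₂.φ ((h : Γ₂) * g) π)) =
      addVal O₂ (T.i (T.A₁.φ (T.p g) π₁ - π₁)) := by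
  obtain ⟨F, hFm, hFd, hF⟩ := T.exists_poly π
  rw [← T.eval_map_σ π hF g]
  have hF0 : (F.map T.i).eval π = 0 := by
    rw [hF, eval_prod]
    refine Finset.prod_eq_zero (Finset.mem_univ (1 : T.p.ker)) ?_
    rw [OneMemClass.coe_one, T.A₂.one, RingHom.id_apply, eval_sub, eval_X, eval_C, sub_self]
  refine le_antisymm ?_ ?_
  · -- the hard inequality
    rw [addVal_le_iff_dvd]
    refine dvd_of_forall fun M => ?_
    set e := Fintype.card T.p.ker with hedef
    have he0 : 0 < e := Fintype.card_pos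
    obtain ⟨c, hc, hb⟩ := approx T.A₂ T.res hπ (e * M) (T.i π₁)
    choose d hd using fun j => T.inv (c j) fun g _ => hc j g
    have hdσ : ∀ j, T.A₁.φ (T.p g) (d j) = d j := by
      intro j
      apply T.inj
      rw [← T.comm, hd, hc]
    let P : O₁[X] := ∑ j ∈ Finset.range (e * M), C (d j) * X ^ j
    have hPσ : P.map (T.A₁.φ (T.p g)) = P := by
      simp only [P, Polynomial.map_sum, Polynomial.map_mul, Polynomial.map_pow, map_X, map_C, hdσ]
    have hPe : (P.map T.i).eval π = ∑ j ∈ Finset.range (e * M), c j * π ^ j := by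
      simp only [P, Polynomial.map_sum, Polynomial.map_mul, Polynomial.map_pow, map_X, map_C,
        eval_finsetSum, eval_mul, eval_pow, eval_X, eval_C, hd]
    let G : O₁[X] := P - C π₁
    have hG : ((G.map T.i)).eval π ∈ maximalIdeal O₂ ^ (e * M) := by
      have h1 : (G.map T.i).eval π = -(T.i π₁ - ∑ j ∈ Finset.range (e * M), c j * π ^ j) := by
        simp only [G, Polynomial.map_sub, map_C, eval_sub, eval_C, hPe]
        ring
      rw [h1]
      exact Submodule.neg_mem _ hb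
    let R : O₁[X] := G %ₘ F
    let Q : O₁[X] := G /ₘ F
    have hdiv : R + F * Q = G := modByMonic_add_div G F
    have hRdeg : R.natDegree < e := by
      have h1 : F ≠ 1 := by
        rintro rfl
        rw [natDegree_one] at hFd
        omega
      rw [← hFd]
      exact natDegree_modByMonic_lt G hFm h1
    have hReval : ∀ (f : O₁ →+* O₂), (R.map f).eval π =
        ∑ j ∈ Finset.range e, f (R.coeff j) * π ^ j := by
      intro f
      rw [eval_eq_sum_range' (lt_of_le_of_lt natDegree_map_le hRdeg)]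
      simp only [coeff_map]
    have hR : ∑ j ∈ Finset.range e, T.i (R.coeff j) * π ^ j ∈ maximalIdeal O₂ ^ (e * M) := by
      rw [← hReval]
      have h1 : (G.map T.i).eval π = (R.map T.i).eval π := by
        rw [← hdiv, Polynomial.map_add, Polynomial.map_mul, eval_add, eval_mul, hF0, zero_mul,
          add_zero]
      rwa [h1] at hG
    have hRc := T.coeff_mem hπ M (fun j => R.coeff j) hR
    have hRσ : ((R.map (T.A₁.φ (T.p g))).map T.i).eval π ∈ maximalIdeal O₂ ^ M := by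
      rw [Polynomial.map_map, hReval]
      refine Ideal.sum_mem _ fun j hj => Ideal.mul_mem_right _ _ ?_
      have h1 : T.A₁.φ (T.p g) (R.coeff j) ∈ maximalIdeal O₁ ^ M :=
        T.A₁.map_pow_mem _ _ (hRc j (Finset.mem_range.1 hj))
      rw [RingHom.comp_apply, mem_pow_iff, T.addVal_i']
      rw [mem_pow_iff] at h1
      refine h1.trans ?_
      have h2 : (1 : ℕ∞) ≤ (e : ℕ∞) := by exact_mod_cast he0
      calc addVal O₁ (T.A₁.φ (T.p g) (R.coeff j))
          = 1 * addVal O₁ (T.A₁.φ (T.p g) (R.coeff j)) := (one_mul _).symm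
        _ ≤ e * addVal O₁ (T.A₁.φ (T.p g) (R.coeff j)) := by gcongr
    have hσ : (G.map (T.A₁.φ (T.p g))) = G + C (π₁ - T.A₁.φ (T.p g) π₁) := by
      simp only [G, Polynomial.map_sub, map_C, hPσ, map_sub]
      ring
    have h2 := congrArg (fun q : O₁[X] => ((q.map (T.A₁.φ (T.p g))).map T.i).eval π) hdiv
    simp only [hσ] at h2
    rw [Polynomial.map_add, Polynomial.map_mul, Polynomial.map_add, Polynomial.map_mul,
      Polynomial.map_add, eval_add, eval_mul, eval_add, map_C, eval_C] at h2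
    have h3 : T.i (T.A₁.φ (T.p g) π₁ - π₁) =
        ((F.map (T.A₁.φ (T.p g))).map T.i).eval π *
          (-((Q.map (T.A₁.φ (T.p g))).map T.i).eval π) +
        ((G.map T.i).eval π - ((R.map (T.A₁.φ (T.p g))).map T.i).eval π) := by
      have h4 : T.i (T.A₁.φ (T.p g) π₁ - π₁) = -T.i (π₁ - T.A₁.φ (T.p g) π₁) := by
        rw [← map_neg, neg_sub]
      rw [h4]
      linear_combination h2
    rw [h3]
    refine Submodule.add_mem_sup (Ideal.mul_mem_right _ _ (Ideal.mem_span_singleton_self _)) ?_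
    refine Submodule.sub_mem _ (Ideal.pow_le_pow_right ?_ hG) hRσ
    exact Nat.le_mul_of_pos_left M he0
  · -- the easy inequality
    rw [addVal_le_iff_dvd]
    have h1 : ((F.map (T.A₁.φ (T.p g))).map T.i).eval π =
        (((F.map (T.A₁.φ (T.p g))) - F).map T.i).eval π := by
      rw [Polynomial.map_sub, eval_sub, hF0, sub_zero]
    rw [h1, eval_map, eval₂_eq_sum_range]
    refine Finset.dvd_sum fun j _ => Dvd.dvd.mul_right ?_ _
    rw [coeff_sub, coeff_map]
    exact map_dvd T.i (dvd_sub T.A₁ T.res₁ hπ₁ _ _)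

omit [IsDomain O₁] [IsDiscreteValuationRing O₁] in
theorem addVal_prod {ι : Type*} (s : Finset ι) (f : ι → O₂) :
    addVal O₂ (∏ h ∈ s, f h) = ∑ h ∈ s, addVal O₂ (f h) := by
  classical
  induction s using Finset.cons_induction with
  | empty => rw [Finset.prod_empty, addVal_one, Finset.sum_empty]
  | cons h s hs ih => rw [Finset.prod_cons, addVal_mul, ih, Finset.sum_cons]

/-- Serre, Corps locaux, IV, Prop. 3 -/
theorem prop3 {π : O₂} (hπ : Irreducible π) {π₁ : O₁} (hπ₁ : Irreducible π₁) (g : Γ₂) :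
    ∑ h : T.p.ker, addVal O₂ (T.A₂.φ ((h : Γ₂) * g) π - π) =
      Fintype.card T.p.ker * addVal O₁ (T.A₁.φ (T.p g) π₁ - π₁) := by
  rw [← T.addVal_i', ← T.prop3_aux hπ hπ₁ g, addVal_prod]
  refine Finset.sum_congr rfl fun h _ => ?_
  rw [← neg_sub, AddValuation.map_neg]

end finite

end Tower

end Groth.Agent.Vancyc.H163.HerbrandDVR
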