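import Groth.Agent.Lefpen.H702.Generic
import Mathlib.LinearAlgebra.Matrix.ToLinearEquiv
import Mathlib.LinearAlgebra.Matrix.Determinant.Basic
import Mathlib.RingTheory.MvPolynomial.Homogeneous
import Mathlib.FieldTheory.IsAlgClosed.Basic
import Mathlib.Algebra.MvPolynomial.Funext

/-!
# Morse perturbations of polynomials away from the origin (characteristic zero)

`exists_morse`: every polynomial `f₀` over an algebraically closed field of characteristic zero agrees
up to order `N` at the origin with a polynomial `f = ∑ X_i ^ d + lower terms` all of whose critical points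
different from the origin are nondegenerate.
-/

set_option autoImplicit false

universe u

open MvPolynomial

namespace Groth.Agent.Vancyc.H163.Morse

/-- The perturbation monomials. -/
noncomputable def pert (k : Type u) [Field k] (m N : ℕ) (ab : Fin m × Fin m) : MvPolynomial (Fin m) k :=
  X ab.1 ^ N * X ab.2

theorem aeval_pderiv_pert {k : Type u} [Field k] {K : Type*} [Field K] [Algebra k K] {m : ℕ} (N : ℕ)
    (l j i : Fin m) (x : Fin m → K) :
    aeval x (pderiv i (pert k m N (l, j))) =
      (if i = l then (N : K) * x l ^ (N - 1) * x j else 0) + (if i = j then x l ^ N else 0) := by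
  classical
  rw [pert, Derivation.leibniz, Derivation.leibniz_pow, pderiv_X, pderiv_X]
  simp only [smul_eq_mul, map_add, map_mul, aeval_X, map_pow, nsmul_eq_mul, map_natCast]
  rcases eq_or_ne i l with rfl | h1 <;> rcases eq_or_ne i j with rfl | h2
  · simp; ring
  · simp [h2, Ne.symm h2]; ring
  · simp [h1, Ne.symm h1]
  · simp [h1, h2, Ne.symm h1, Ne.symm h2]

/-- The generic member of the family has no degenerate critical point with `x l ≠ 0`. -/
theorem det_ne_zero {k : Type u} {K : Type*} [Field k] [Field K] [Algebra k K] [CharZero k] {m : ℕ}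
    (N : ℕ) (f₁ : MvPolynomial (Fin m) k) (y : Fin m × Fin m → K) (hy : AlgebraicIndependent k y)
    (x : Fin m → K) (l : Fin m) (hl : x l ≠ 0)
    (hgrad : ∀ i, aeval x (pderiv i f₁) + ∑ ab, y ab * aeval x (pderiv i (pert k m N ab)) = 0) :
    (Matrix.of fun i j => aeval x (pderiv i (pderiv j f₁)) +
      ∑ ab, y ab * aeval x (pderiv i (pderiv j (pert k m N ab)))).det ≠ 0 := by
  classical
  intro hdet
  set M : Matrix (Fin m) (Fin m) K := Matrix.of fun i j => aeval x (pderiv i (pderiv j f₁)) +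
      ∑ ab, y ab * aeval x (pderiv i (pderiv j (pert k m N ab))) with hM
  obtain ⟨v, hv0, hv⟩ := Matrix.exists_mulVec_eq_zero_iff.2 hdet
  have hchar : CharZero K := charZero_of_injective_algebraMap (algebraMap k K).injective
  have key : ∀ j : Fin m, v l * ((N : K) * x l ^ (N - 1) * x j) + v j * x l ^ N = 0 := by
    intro j
    obtain ⟨D, hD⟩ := Lefpen.H702.Generic.exists_derivation y hy (fun ab ↦ if ab = (l, j) then 1 else 0)
    have h1 : ∀ i : Fin m, ∑ s, M s i * D (x s) + aeval x (pderiv i (pert k m N (l, j))) = 0 := by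
      intro i
      have h2 := congrArg D (hgrad i)
      rw [map_add, map_zero, map_sum, Lefpen.H702.Generic.derivation_aeval] at h2
      have h3 : ∀ ab, D (y ab * aeval x (pderiv i (pert k m N ab))) =
          ∑ s, y ab * aeval x (pderiv s (pderiv i (pert k m N ab))) * D (x s) +
            (if ab = (l, j) then aeval x (pderiv i (pert k m N ab)) else 0) := by
        intro ab
        rw [Derivation.leibniz, hD, Lefpen.H702.Generic.derivation_aeval, smul_eq_mul, smul_eq_mul,
          Finset.mul_sum]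
        congr 1
        · exact Finset.sum_congr rfl fun s _ ↦ by ring
        · split_ifs <;> simp
      simp_rw [h3] at h2
      rw [Finset.sum_add_distrib, Finset.sum_comm, Finset.sum_ite_eq' Finset.univ (l, j)] at h2
      simp only [Finset.mem_univ, if_true] at h2
      rw [← add_assoc, ← Finset.sum_add_distrib] at h2
      rw [← h2]
      congr 1
      refine Finset.sum_congr rfl fun s _ ↦ ?_
      simp only [hM, Matrix.of_apply, add_mul, Finset.sum_mul]
    have h4 : ∑ i, (∑ s, M s i * D (x s)) * v i = 0 := by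
      simp_rw [Finset.sum_mul]
      rw [Finset.sum_comm]
      refine Finset.sum_eq_zero fun s _ ↦ ?_
      have h5 := congrFun hv s
      rw [Matrix.mulVec, dotProduct] at h5
      calc ∑ i, M s i * D (x s) * v i = (∑ i, M s i * v i) * D (x s) := by
            rw [Finset.sum_mul]
            exact Finset.sum_congr rfl fun i _ ↦ by ring
        _ = 0 := by rw [h5]; simp
    have h6 : ∑ i, aeval x (pderiv i (pert k m N (l, j))) * v i = 0 := by
      have h7 : ∑ i, (∑ s, M s i * D (x s) + aeval x (pderiv i (pert k m N (l, j)))) * v i = 0 :=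
        Finset.sum_eq_zero fun i _ ↦ by rw [h1, zero_mul]
      simp_rw [add_mul] at h7
      rw [Finset.sum_add_distrib, h4, zero_add] at h7
      exact h7
    simp_rw [aeval_pderiv_pert, add_mul, ite_mul, zero_mul] at h6
    rw [Finset.sum_add_distrib, Finset.sum_ite_eq' , Finset.sum_ite_eq'] at h6
    simp only [Finset.mem_univ, if_true] at h6
    rw [← h6]
    ring
  have hxN : x l ^ N ≠ 0 := pow_ne_zero _ hl
  have hvl : v l = 0 := by
    have h8 := key l
    have h9 : (N : K) * x l ^ (N - 1) * x l = N * x l ^ N := by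
      rcases N with _ | N
      · simp
      · rw [Nat.add_sub_cancel, mul_assoc, ← pow_succ]
    rw [h9] at h8
    have h10 : v l * (((N + 1 : ℕ) : K) * x l ^ N) = 0 := by
      rw [← h8]; push_cast; ring
    rcases mul_eq_zero.1 h10 with h | h
    · exact h
    · exact absurd h (mul_ne_zero (Nat.cast_ne_zero.2 (Nat.succ_ne_zero N)) hxN)
  apply hv0
  funext j
  have h11 := key j
  rw [hvl, zero_mul, zero_add] at h11
  rcases mul_eq_zero.1 h11 with h | h
  · exact h
  · exact absurd h hxN

/-- The parameters. -/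
abbrev Par (m : ℕ) := Fin m × Fin m

/-- The unknowns: the point and an inverse of one coordinate. -/
abbrev Unk (m : ℕ) := Fin m ⊕ Unit

/-- A family of polynomials, as a polynomial in parameters and unknowns. -/
noncomputable def fam {k : Type u} [Field k] {m : ℕ} (g₀ : MvPolynomial (Fin m) k)
    (g : Par m → MvPolynomial (Fin m) k) : MvPolynomial (Par m ⊕ Unk m) k :=
  rename (fun i ↦ Sum.inr (Sum.inl i)) g₀ +
    ∑ ab, X (Sum.inl ab) * rename (fun i ↦ Sum.inr (Sum.inl i)) (g ab)

theorem aeval_fam {k : Type u} [Field k] {K : Type*} [Field K] [Algebra k K] {m : ℕ}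
    (g₀ : MvPolynomial (Fin m) k) (g : Par m → MvPolynomial (Fin m) k) (y : Par m → K) (p : Unk m → K) :
    aeval (Sum.elim y p) (fam g₀ g) = aeval (p ∘ Sum.inl) g₀ + ∑ ab, y ab * aeval (p ∘ Sum.inl) (g ab) := by
  rw [fam, map_add, map_sum, aeval_rename]
  congr 1
  refine Finset.sum_congr rfl fun ab _ ↦ ?_
  rw [map_mul, aeval_X, aeval_rename]
  rfl

/-- The Hessian determinant of the family. -/
noncomputable def hess {k : Type u} [Field k] {m : ℕ} (N : ℕ) (f₁ : MvPolynomial (Fin m) k) :
    MvPolynomial (Par m ⊕ Unk m) k :=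
  (Matrix.of fun i j : Fin m => fam (pderiv i (pderiv j f₁))
    fun ab ↦ pderiv i (pderiv j (pert k m N ab))).det

theorem aeval_hess {k : Type u} [Field k] {K : Type*} [Field K] [Algebra k K] {m : ℕ}
    (N : ℕ) (f₁ : MvPolynomial (Fin m) k) (y : Par m → K) (p : Unk m → K) :
    aeval (Sum.elim y p) (hess N f₁) = (Matrix.of fun i j => aeval (p ∘ Sum.inl) (pderiv i (pderiv j f₁)) +
      ∑ ab, y ab * aeval (p ∘ Sum.inl) (pderiv i (pderiv j (pert k m N ab)))).det := by
  rw [hess, AlgHom.map_det]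
  congr 1
  ext i j
  rw [AlgHom.mapMatrix_apply, Matrix.map_apply, Matrix.of_apply, Matrix.of_apply, aeval_fam]

/-- The system of equations for a degenerate critical point with `x l ≠ 0`. -/
def sys {k : Type u} [Field k] {m : ℕ} (N : ℕ) (f₁ : MvPolynomial (Fin m) k) (l : Fin m) :
    Set (MvPolynomial (Par m ⊕ Unk m) k) :=
  {P | (∃ i, P = fam (pderiv i f₁) fun ab ↦ pderiv i (pert k m N ab)) ∨ P = hess N f₁ ∨
    P = X (Sum.inr (Sum.inl l)) * X (Sum.inr (Sum.inr ())) - 1}

theorem exists_discr {k : Type u} [Field k] [CharZero k] {m : ℕ} (N : ℕ) (f₁ : MvPolynomial (Fin m) k)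
    (l : Fin m) :
    ∃ Δ : MvPolynomial (Par m) k, Δ ≠ 0 ∧ ∀ (y : Par m → k) (x : Fin m → k), x l ≠ 0 →
      (∀ i, eval x (pderiv i f₁) + ∑ ab, y ab * eval x (pderiv i (pert k m N ab)) = 0) →
      (Matrix.of fun i j => eval x (pderiv i (pderiv j f₁)) +
        ∑ ab, y ab * eval x (pderiv i (pderiv j (pert k m N ab)))).det = 0 → eval y Δ = 0 := by
  obtain ⟨Δ, hΔ, h⟩ := Lefpen.H702.Generic.exists_polynomial_of_system (sys N f₁ l) (by
    intro K _ _ y p hp hy
    have h1 : (p ∘ Sum.inl) l ≠ 0 := by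
      have h2 := hp _ (Or.inr (Or.inr rfl))
      rw [map_sub, map_mul, aeval_X, aeval_X, map_one, Sum.elim_inr, Sum.elim_inr, sub_eq_zero] at h2
      exact left_ne_zero_of_mul_eq_one h2
    refine det_ne_zero N f₁ y hy (p ∘ Sum.inl) l h1 (fun i ↦ ?_) ?_
    · rw [← aeval_fam]
      exact hp _ (Or.inl ⟨i, rfl⟩)
    · rw [← aeval_hess]
      exact hp _ (Or.inr (Or.inl rfl)))
  refine ⟨Δ, hΔ, fun y x hx hg hd ↦ ?_⟩
  have h3 := h y (Sum.elim x fun _ ↦ (x l)⁻¹) (by
    have hx' : (Sum.elim x (fun _ : Unit ↦ (x l)⁻¹)) ∘ Sum.inl = x := by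
      funext i; rfl
    rintro P (⟨i, rfl⟩ | rfl | rfl)
    · rw [aeval_fam, hx', ← hg i]
      simp only [aeval_eq_eval]
    · rw [aeval_hess, hx', ← hd]
      simp only [aeval_eq_eval]
    · rw [map_sub, map_mul, aeval_X, aeval_X, map_one, Sum.elim_inr, Sum.elim_inr, Sum.elim_inl,
        Sum.elim_inr, mul_inv_cancel₀ hx, sub_self])
  rw [← h3, aeval_eq_eval]

theorem exists_morse (k : Type u) [Field k] [IsAlgClosed k] [CharZero k] (m : ℕ)
    (f₀ : MvPolynomial (Fin m) k) (N : ℕ) :
    ∃ (d : ℕ) (f : MvPolynomial (Fin m) k), 2 ≤ d ∧ (f - ∑ i, X i ^ d).totalDegree < d ∧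
      f - f₀ ∈ (Ideal.span (Set.range (X : Fin m → MvPolynomial (Fin m) k))) ^ N ∧
      ∀ a : Fin m → k, (∀ i, eval a (pderiv i f) = 0) → a ≠ 0 →
        (Matrix.of fun i j => eval a (pderiv i (pderiv j f))).det ≠ 0 := by
  classical
  set d : ℕ := N + f₀.totalDegree + 3 with hd
  set f₁ : MvPolynomial (Fin m) k := f₀ + ∑ i, X i ^ d with hf₁
  choose Δ hΔ hΔ' using fun l : Fin m ↦ exists_discr (N + 1) f₁ l
  have hprod : ∏ l, Δ l ≠ 0 := Finset.prod_ne_zero_iff.2 fun l _ ↦ hΔ l
  obtain ⟨c, hc⟩ : ∃ c : Par m → k, eval c (∏ l, Δ l) ≠ 0 := by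
    by_contra! h
    exact hprod (MvPolynomial.funext fun c ↦ by rw [h c, map_zero])
  rw [map_prod] at hc
  have hc' : ∀ l, eval c (Δ l) ≠ 0 := fun l ↦ Finset.prod_ne_zero_iff.1 hc l (Finset.mem_univ l)
  set g : MvPolynomial (Fin m) k := ∑ ab, C (c ab) * pert k m (N + 1) ab with hg
  refine ⟨d, f₁ + g, by omega, ?_, ?_, ?_⟩
  · have h1 : f₁ + g - ∑ i, X i ^ d = f₀ + g := by rw [hf₁]; ring
    rw [h1]
    have h2 : g.totalDegree ≤ N + 2 := by
      rw [hg]
      refine (totalDegree_finsetSum _ _).trans (Finset.sup_le fun ab _ ↦ ?_)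
      refine (totalDegree_mul _ _).trans ?_
      rw [totalDegree_C, zero_add, pert]
      refine (totalDegree_mul _ _).trans ?_
      have h3 := totalDegree_X_pow (R := k) ab.1 (N + 1)
      have h4 := totalDegree_X (R := k) ab.2
      omega
    have h5 := totalDegree_add f₀ g
    omega
  · have h1 : f₁ + g - f₀ = (∑ i, X i ^ d) + g := by rw [hf₁]; ring
    rw [h1]
    refine Ideal.add_mem _ (Ideal.sum_mem _ fun i _ ↦ ?_) ?_
    · exact Ideal.pow_le_pow_right (by omega)
        (Ideal.pow_mem_pow (Ideal.subset_span (Set.mem_range_self i)) d)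
    · rw [hg]
      refine Ideal.sum_mem _ fun ab _ ↦ Ideal.mul_mem_left _ _ ?_
      rw [pert]
      exact Ideal.mul_mem_right _ _ (Ideal.pow_le_pow_right (by omega)
        (Ideal.pow_mem_pow (Ideal.subset_span (Set.mem_range_self ab.1)) (N + 1)))
  · intro a ha ha0 hdet
    obtain ⟨l, hl⟩ := Function.ne_iff.1 ha0
    have hp : ∀ (L : MvPolynomial (Fin m) k →ₗ[k] MvPolynomial (Fin m) k),
        eval a (L (f₁ + g)) = eval a (L f₁) + ∑ ab, c ab * eval a (L (pert k m (N + 1) ab)) := by
      intro L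
      rw [map_add, map_add, hg, map_sum, map_sum]
      congr 1
      refine Finset.sum_congr rfl fun ab _ ↦ ?_
      rw [← smul_eq_C_mul, map_smul, smul_eval]
    refine hc' l (hΔ' l c a hl (fun i ↦ ?_) ?_)
    · exact (hp (pderiv i).toLinearMap).symm.trans (ha i)
    · rw [← hdet]
      congr 1
      ext i j
      rw [Matrix.of_apply, Matrix.of_apply]
      exact (hp ((pderiv i).toLinearMap ∘ₗ (pderiv j).toLinearMap)).symm

end Groth.Agent.Vancyc.H163.Morse
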