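import Mathlib.FieldTheory.Galois.Infinite
import Mathlib.FieldTheory.IsSepClosed
import Mathlib.FieldTheory.Normal.Closure
import Mathlib.GroupTheory.Sylow
import Mathlib.Order.Zorn

/-!
# Subfields with prescribed intersection with a finite Galois extension, all of whose Galois extensions have
`p`-power degree

`exists_field`: `Ω` a separable closure of `K`, `L ⊆ Ω` finite Galois over `K`, `H ≤ Gal(L/K)` of order a power of `p`
(`p` prime or `1`). There is `K ⊆ E ⊆ Ω` such that the finite Galois extensions of `E` have `p`-power degree and the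
image of `Gal(Ω/E)` in `Gal(L/K)` is `H`.
-/

set_option autoImplicit false
set_option linter.unusedSectionVars false

universe u

namespace Groth.Agent.Vancyc.H163.PField

/-- All finite Galois extensions have degree a power of `p`. -/
def Adm (p : ℕ) (E : Type u) [Field E] : Prop :=
  ∀ (M : Type u) [Field M] [Algebra E M] [FiniteDimensional E M] [IsGalois E M], ∃ a, Module.finrank E M = p ^ a

section

variable {K Ω : Type u} [Field K] [Field Ω] [Algebra K Ω] [Algebra.IsSeparable K Ω] [IsSepClosed Ω]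
  (L : IntermediateField K Ω) [FiniteDimensional K L] [IsGalois K L] (H : Subgroup (L ≃ₐ[K] L))

/-- The fixed field of `H` as a subfield of `Ω`. -/
noncomputable def F₀ : IntermediateField K Ω := (IntermediateField.fixedField H).map L.val

theorem mem_F₀ {x : Ω} : x ∈ F₀ L H ↔ ∃ hx : x ∈ L, ∀ h ∈ H, h ⟨x, hx⟩ = ⟨x, hx⟩ := by
  constructor
  · rintro ⟨y, hy, rfl⟩
    exact ⟨y.2, fun h hh => hy ⟨h, hh⟩⟩
  · rintro ⟨hx, h⟩
    exact ⟨⟨x, hx⟩, fun g => h g.1 g.2, rfl⟩

/-- The candidates. -/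
def cand : Set (IntermediateField K Ω) := {E | F₀ L H ≤ E ∧ E ⊓ L ≤ F₀ L H}

theorem exists_maximal : ∃ E, Maximal (· ∈ cand L H) E := by
  obtain ⟨m, -, hm⟩ := zorn_le_nonempty₀ (cand L H) (fun c hc hch y hy => by
    have hne : Nonempty c := ⟨⟨y, hy⟩⟩
    have hdir : Directed (· ≤ ·) (fun E : c => (E : IntermediateField K Ω)) := by
      rintro ⟨a, ha⟩ ⟨b, hb⟩
      rcases hch.total ha hb with h | h
      · exact ⟨⟨b, hb⟩, h, le_rfl⟩
      · exact ⟨⟨a, ha⟩, le_rfl, h⟩
    refine ⟨⨆ E : c, (E : IntermediateField K Ω), ⟨?_, ?_⟩, fun z hz => le_iSup (fun E : c =>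
      (E : IntermediateField K Ω)) ⟨z, hz⟩⟩
    · exact (hc hy).1.trans (le_iSup (fun E : c => (E : IntermediateField K Ω)) ⟨y, hy⟩)
    · rintro x ⟨hx1, hx2⟩
      have h1 : x ∈ ⋃ i : c, ((i : IntermediateField K Ω) : Set Ω) := by
        rw [← IntermediateField.coe_iSup_of_directed hdir]
        exact hx1
      obtain ⟨⟨E, hE⟩, hxE⟩ := Set.mem_iUnion.1 h1
      exact (hc hE).2 ⟨hxE, hx2⟩) (F₀ L H) ⟨le_rfl, inf_le_left⟩
  exact ⟨m, hm⟩

variable {L H}

/-- The image of `Gal(Ω/E)` in `Gal(L/K)` is `H`. -/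
def Img (L : IntermediateField K Ω) [IsGalois K L] (H : Subgroup (L ≃ₐ[K] L)) (E : IntermediateField K Ω) : Prop :=
  ∀ h : L ≃ₐ[K] L, h ∈ H ↔ ∃ σ : Ω ≃ₐ[K] Ω, (∀ x ∈ E, σ x = x) ∧ ∀ x : L, σ (x : Ω) = (h x : Ω)

theorem isGalois_top : IsGalois K Ω := by
  have : Normal K Ω := by
    have : IsSepClosure K Ω := ⟨inferInstance, inferInstance⟩
    exact (IsSepClosure.isGalois (k := K) (K := Ω)).to_normal
  exact ⟨⟩

theorem img_of_cand {E : IntermediateField K Ω} (hE : E ∈ cand L H) : Img L H E := by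
  have hG : IsGalois K Ω := isGalois_top
  let D : Subgroup (L ≃ₐ[K] L) := E.fixingSubgroup.map (AlgEquiv.restrictNormalHom L)
  have hD : D = H := by
    apply le_antisymm
    · rintro _ ⟨σ, hσ, rfl⟩
      rw [← IntermediateField.fixingSubgroup_fixedField H]
      rintro ⟨x, hx⟩
      have h1 : (x : Ω) ∈ E := hE.1 ((mem_F₀ L H).2 ⟨x.2, fun h hh => hx ⟨h, hh⟩⟩)
      apply Subtype.ext
      exact (AlgEquiv.restrictNormal_commutes σ L x).trans (hσ ⟨_, h1⟩)
    · have h1 : IntermediateField.fixedField D ≤ IntermediateField.fixedField H := by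
        intro x hx
        have h2 : (x : Ω) ∈ E := by
          rw [← InfiniteGalois.fixedField_fixingSubgroup E]
          rintro ⟨σ, hσ⟩
          have h3 : AlgEquiv.restrictNormalHom L σ x = x := hx ⟨_, ⟨σ, hσ, rfl⟩⟩
          exact (AlgEquiv.restrictNormal_commutes σ L x).symm.trans (congrArg (algebraMap L Ω) h3)
        obtain ⟨h3, h4⟩ := (mem_F₀ L H).1 (hE.2 ⟨h2, x.2⟩)
        exact fun g => h4 g.1 g.2
      rw [← IntermediateField.fixingSubgroup_fixedField H, ← IntermediateField.fixingSubgroup_fixedField D]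
      exact IntermediateField.fixingSubgroup_antitone h1
  intro h
  rw [← hD]
  constructor
  · rintro ⟨σ, hσ, rfl⟩
    exact ⟨σ, fun x hx => hσ ⟨x, hx⟩, fun x => (AlgEquiv.restrictNormal_commutes σ L x).symm⟩
  · rintro ⟨σ, hσ, h1⟩
    refine ⟨σ, fun x => hσ x x.2, ?_⟩
    ext x
    exact (AlgEquiv.restrictNormal_commutes σ L x).trans (h1 x)

/-- The restriction homomorphism. -/
noncomputable def rr (L : IntermediateField K Ω) [Normal K L] (E : IntermediateField K Ω) :
    (Ω ≃ₐ[E] Ω) →* (L ≃ₐ[K] L) :=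
  (AlgEquiv.restrictNormalHom L).comp (AlgEquiv.restrictScalarsHom K)

theorem rr_apply (E : IntermediateField K Ω) (σ : Ω ≃ₐ[E] Ω) (x : L) : (rr L E σ x : Ω) = σ (x : Ω) :=
  AlgEquiv.restrictNormal_commutes (σ.restrictScalars K) L x

theorem exists_rr {E : IntermediateField K Ω} (hE : Img L H E) {h : L ≃ₐ[K] L} (hh : h ∈ H) :
    ∃ σ : Ω ≃ₐ[E] Ω, rr L E σ = h := by
  obtain ⟨σ, h1, h2⟩ := (hE h).1 hh
  refine ⟨AlgEquiv.ofRingEquiv (f := σ.toRingEquiv) fun x => h1 x x.2, ?_⟩
  ext x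
  rw [rr_apply]
  exact h2 x

theorem rr_mem {E : IntermediateField K Ω} (hE : Img L H E) (σ : Ω ≃ₐ[E] Ω) : rr L E σ ∈ H :=
  (hE _).2 ⟨σ.restrictScalars K, fun x hx => σ.commutes ⟨x, hx⟩, fun x => (rr_apply E σ x).symm⟩

theorem adm_of_maximal {p : ℕ} (hp : p.Prime ∨ p = 1) {a : ℕ} (hH : Nat.card H = p ^ a)
    {E : IntermediateField K Ω} (hE : Maximal (· ∈ cand L H) E) : Adm p E := by
  have hG : IsGalois K Ω := isGalois_top
  have hGE : IsGalois E Ω := IsGalois.tower_top_of_isGalois K E Ω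
  have hI : Img L H E := img_of_cand hE.prop
  intro M _ _ _ _
  let φ : M →ₐ[E] Ω := IsSepClosed.lift
  let M' : IntermediateField E Ω := φ.fieldRange
  have eM : M ≃ₐ[E] M' := AlgEquiv.ofInjectiveField φ
  have hfM : FiniteDimensional E M' := LinearEquiv.finiteDimensional eM.toLinearEquiv
  -- a finite Galois extension containing `M'` and `L`
  let A : IntermediateField E Ω := M' ⊔ IntermediateField.adjoin E (L : Set Ω)
  have hfL : FiniteDimensional E (IntermediateField.adjoin E (L : Set Ω)) := by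
    let b := Module.finBasis K L
    let s : Set Ω := Set.range fun i => (b i : Ω)
    have h1 : FiniteDimensional E (IntermediateField.adjoin E s) :=
      IntermediateField.finiteDimensional_adjoin fun x _ => Algebra.IsIntegral.isIntegral x
    have h2 : IntermediateField.adjoin E (L : Set Ω) ≤ IntermediateField.adjoin E s := by
      rw [IntermediateField.adjoin_le_iff]
      intro x hx
      have h3 : x = ∑ i, (b.repr ⟨x, hx⟩ i) • (b i : Ω) := by
        have h4 := congrArg L.val (b.sum_repr ⟨x, hx⟩)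
        rw [map_sum] at h4
        refine h4.symm.trans (Finset.sum_congr rfl fun i _ => ?_)
        exact map_smul L.val _ _
      rw [h3]
      refine sum_mem fun i _ => ?_
      rw [Algebra.smul_def]
      refine mul_mem ?_ (IntermediateField.subset_adjoin E s ⟨i, rfl⟩)
      rw [IsScalarTower.algebraMap_apply K E Ω]
      exact IntermediateField.algebraMap_mem _ _
    exact Module.Finite.of_injective (IntermediateField.inclusion h2).toLinearMap
      (IntermediateField.inclusion_injective h2)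
  have hfA : FiniteDimensional E A := IntermediateField.finiteDimensional_sup _ _
  let N : IntermediateField E Ω := IntermediateField.normalClosure E A Ω
  have hfN : FiniteDimensional E N := normalClosure.is_finiteDimensional E A Ω
  have hnN : Normal E N := normalClosure.normal E A Ω
  have hgN : IsGalois E N := ⟨⟩
  have hAN : A ≤ N := IntermediateField.le_normalClosure A
  have hLN : ∀ x ∈ L, x ∈ N := fun x hx => hAN ((le_sup_right : _ ≤ A)
    (IntermediateField.subset_adjoin E (L : Set Ω) hx))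
  -- a Sylow subgroup
  obtain ⟨S, b, hS1, hS2⟩ : ∃ (S : Subgroup (N ≃ₐ[E] N)) (b : ℕ), Nat.card S = p ^ b ∧ S.index.Coprime p := by
    rcases hp with hp | rfl
    · have : Fact p.Prime := ⟨hp⟩
      obtain ⟨S⟩ : Nonempty (Sylow p (N ≃ₐ[E] N)) := inferInstance
      obtain ⟨b, hb⟩ := (IsPGroup.iff_card (p := p)).1 S.isPGroup'
      refine ⟨S, b, hb, ?_⟩
      exact ((Nat.Prime.coprime_iff_not_dvd hp).2 S.not_dvd_index).symm
    · exact ⟨⊥, 0, by simp, Nat.coprime_one_right _⟩
  let q : (Ω ≃ₐ[E] Ω) →* (N ≃ₐ[E] N) := AlgEquiv.restrictNormalHom N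
  have hq : Function.Surjective q := AlgEquiv.restrictNormalHom_surjective Ω
  have hqx : ∀ (σ : Ω ≃ₐ[E] Ω) (x : N), (q σ x : Ω) = σ (x : Ω) := fun σ x =>
    AlgEquiv.restrictNormal_commutes σ N x
  let S' : Subgroup (Ω ≃ₐ[E] Ω) := S.comap q
  let r : (Ω ≃ₐ[E] Ω) →* H := (rr L E).codRestrict H (rr_mem hI)
  have hr : Function.Surjective r := by
    rintro ⟨h, hh⟩
    obtain ⟨σ, hσ⟩ := exists_rr hI hh
    exact ⟨σ, Subtype.ext hσ⟩
  have hSr : S'.map r = ⊤ := by
    rw [← Subgroup.index_eq_one]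
    have h1 : (S'.map r).index ∣ S.index := by
      rw [← Subgroup.index_comap_of_surjective S hq]
      exact Subgroup.index_map_dvd S' hr
    have h2 : (S'.map r).index ∣ p ^ a := by
      rw [← hH]
      exact Subgroup.index_dvd_card _
    exact Nat.eq_one_of_dvd_coprimes (Nat.Coprime.pow_right a hS2) h1 h2
  let E₁ : IntermediateField K Ω := (IntermediateField.fixedField S').restrictScalars K
  have hE₁ : E ≤ E₁ := by
    intro x hx
    exact fun g => g.1.commutes ⟨x, hx⟩
  have hc : E₁ ∈ cand L H := by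
    refine ⟨hE.prop.1.trans hE₁, ?_⟩
    rintro x ⟨hx1, hx2⟩
    rw [mem_F₀]
    refine ⟨hx2, fun h hh => ?_⟩
    obtain ⟨σ, hσ, h1⟩ : (⟨h, hh⟩ : H) ∈ S'.map r := by rw [hSr]; trivial
    have h2 : rr L E σ = h := congrArg Subtype.val h1
    apply Subtype.ext
    rw [← h2, rr_apply]
    exact hx1 ⟨σ, hσ⟩
  have hEE : E₁ ≤ E := hE.2 hc hE₁
  have hfix : IntermediateField.fixedField S = ⊥ := by
    rw [eq_bot_iff]
    intro x hx
    have h1 : (x : Ω) ∈ E₁ := by
      rintro ⟨σ, hσ⟩
      exact (hqx σ x).symm.trans (congrArg Subtype.val (hx ⟨q σ, hσ⟩))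
    exact IntermediateField.mem_bot.2 ⟨⟨x, hEE h1⟩, Subtype.ext rfl⟩
  have hST : S = ⊤ := by
    rw [← IntermediateField.fixingSubgroup_fixedField S, hfix]
    exact IntermediateField.fixingSubgroup_bot
  have hN : Module.finrank E N = p ^ b := by
    rw [← IsGalois.card_aut_eq_finrank, ← hS1, hST, Subgroup.card_top]
  have hdvd : Module.finrank E M ∣ p ^ b := by
    rw [← hN, eM.toLinearEquiv.finrank_eq]
    have hMN : M' ≤ N := (le_sup_left : _ ≤ A).trans hAN
    exact IntermediateField.finrank_dvd_of_le_right hMN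
  rcases hp with hp | rfl
  · obtain ⟨c, -, hc⟩ := (Nat.dvd_prime_pow hp).1 hdvd
    exact ⟨c, hc⟩
  · rw [one_pow, Nat.dvd_one] at hdvd
    exact ⟨0, by rw [hdvd, one_pow]⟩

/-- **Existence.** -/
theorem exists_field (L : IntermediateField K Ω) [FiniteDimensional K L] [IsGalois K L]
    (H : Subgroup (L ≃ₐ[K] L)) {p : ℕ} (hp : p.Prime ∨ p = 1) {a : ℕ} (hH : Nat.card H = p ^ a) :
    ∃ E : IntermediateField K Ω, Adm p E ∧ Img L H E := by
  obtain ⟨E, hE⟩ := exists_maximal L H
  exact ⟨E, adm_of_maximal hp hH hE, img_of_cand hE.prop⟩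

omit [Algebra.IsSeparable K Ω] in
theorem adm_of_isSepClosed (p : ℕ) (E : Type u) [Field E] [IsSepClosed E] : Adm p E := by
  intro M _ _ _ _
  refine ⟨0, ?_⟩
  have h2 : Function.Surjective (algebraMap E M) := IsSepClosed.algebraMap_surjective E M
  let e : E ≃ₗ[E] M := LinearEquiv.ofBijective (Algebra.linearMap E M) ⟨(algebraMap E M).injective, h2⟩
  rw [← e.finrank_eq, Module.finrank_self, pow_zero]

theorem Adm.coprime {p : ℕ} {E : Type u} [Field E] (hE : Adm p E) {ℓ : ℕ} (hℓ : p.Coprime ℓ)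
    (M : Type u) [Field M] [Algebra E M] [FiniteDimensional E M] [IsGalois E M] :
    (Module.finrank E M).Coprime ℓ := by
  obtain ⟨a, ha⟩ := hE M
  rw [ha]
  exact Nat.Coprime.pow_left a hℓ

end

end Groth.Agent.Vancyc.H163.PField
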