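import Groth.Agent.Sga5.H833.RamAlg
import Mathlib.RingTheory.DiscreteValuationRing.Basic
import Mathlib.Algebra.Polynomial.Lifts
import Mathlib.Algebra.Polynomial.Div
import Mathlib.LinearAlgebra.Matrix.Determinant.Basic
import Mathlib.LinearAlgebra.Matrix.ToLinearEquiv
import Mathlib.LinearAlgebra.LinearIndependent.Basic
import Mathlib.Data.ENat.Lattice

/-!
# Ramification numbers of a group acting on a discrete valuation ring

`A : CAct Γ O` a contravariant action on a discrete valuation ring with `Res A` (every element is congruent modulo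
the maximal ideal to an invariant one), `π` a uniformizer:

* `le_addVal_sub`: `v(φ g π - π) ≤ v(φ g b - b)` for all `b`;
* `mem_ram_iff`: `g ∈ A.ram n ↔ n + 1 ≤ v(φ g π - π)`;
* `approx`: every element is, modulo `m ^ N`, a sum of invariant elements times `π ^ j`, `j < N`.
-/

set_option autoImplicit false

namespace Groth.Agent.Vancyc.H163.RamDVR

open IsLocalRing IsDiscreteValuationRing Groth.Agent.Sga5.H833.RamAlg

section basics

variable {O : Type*} [CommRing O] [IsDomain O] [IsDiscreteValuationRing O]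

theorem mem_pow_iff {n : ℕ} {a : O} : a ∈ maximalIdeal O ^ n ↔ (n : ℕ∞) ≤ addVal O a := by
  obtain ⟨ϖ, hϖ⟩ := exists_irreducible O
  rw [hϖ.maximalIdeal_eq, Ideal.span_singleton_pow, Ideal.mem_span_singleton, ← addVal_le_iff_dvd,
    hϖ.addVal_pow]

theorem dvd_of_forall {a b : O} (h : ∀ N : ℕ, a ∈ Ideal.span {b} ⊔ maximalIdeal O ^ N) : b ∣ a := by
  by_cases hb : b = 0
  · subst hb
    have h1 : a ∈ (⨅ i : ℕ, maximalIdeal O ^ i : Ideal O) := by
      rw [Submodule.mem_iInf]
      intro i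
      have := h i
      rwa [Ideal.span_singleton_eq_bot.2 rfl, bot_sup_eq] at this
    rw [Ideal.iInf_pow_eq_bot_of_isLocalRing _ (maximalIdeal.isMaximal O).ne_top, Ideal.mem_bot] at h1
    rw [h1]
  · obtain ⟨ϖ, hϖ⟩ := exists_irreducible O
    obtain ⟨n, hn⟩ := associated_pow_irreducible hb hϖ
    have h1 : maximalIdeal O ^ n ≤ Ideal.span {b} := by
      rw [hϖ.maximalIdeal_eq, Ideal.span_singleton_pow, Ideal.span_singleton_le_span_singleton]
      exact hn.dvd
    have h2 := h n
    rw [sup_of_le_left h1] at h2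
    exact Ideal.mem_span_singleton.1 h2

theorem le_of_forall_nat {x y : ℕ∞} (h : ∀ n : ℕ, (n : ℕ∞) ≤ x → (n : ℕ∞) ≤ y) : x ≤ y := by
  induction x using ENat.recTopCoe with
  | top => exact top_le_iff.2 (ENat.eq_top_iff_forall_ge.2 fun n => h n le_top)
  | coe n => exact h n le_rfl

end basics

/-- every element is congruent modulo the maximal ideal to an invariant one -/
def Res {Γ O : Type*} [Group Γ] [CommRing O] [IsLocalRing O] (A : CAct Γ O) : Prop :=
  ∀ b, ∃ c, (∀ g, A.φ g c = c) ∧ b - c ∈ maximalIdeal O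

section

variable {Γ O : Type*} [Group Γ] [CommRing O] [IsDomain O] [IsDiscreteValuationRing O] (A : CAct Γ O)

theorem addVal_φ (g : Γ) (a : O) : addVal O (A.φ g a) = addVal O a := by
  refine le_antisymm (le_of_forall_nat fun n hn => ?_) (le_of_forall_nat fun n hn => ?_)
  · have := A.map_pow_mem g⁻¹ n (mem_pow_iff.2 hn)
    rw [A.inv_apply_apply] at this
    exact mem_pow_iff.1 this
  · exact mem_pow_iff.1 (A.map_pow_mem g n (mem_pow_iff.2 hn))

/-- approximation by polynomials in a uniformizer with invariant coefficients -/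
theorem approx (hA : Res A) {π : O} (hπ : Irreducible π) (N : ℕ) (b : O) :
    ∃ c : ℕ → O, (∀ j g, A.φ g (c j) = c j) ∧
      b - ∑ j ∈ Finset.range N, c j * π ^ j ∈ maximalIdeal O ^ N := by
  induction N generalizing b with
  | zero =>
    refine ⟨fun _ => 0, fun _ g => map_zero _, ?_⟩
    rw [pow_zero, Ideal.one_eq_top]
    trivial
  | succ N ih =>
    obtain ⟨c₀, hc₀, hb⟩ := hA b
    rw [hπ.maximalIdeal_eq, Ideal.mem_span_singleton] at hb
    obtain ⟨b', hb'⟩ := hb
    obtain ⟨c, hc, hcb⟩ := ih b'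
    refine ⟨fun j => Nat.casesOn j c₀ c, ?_, ?_⟩
    · intro j g
      cases j with
      | zero => exact hc₀ g
      | succ j => exact hc j g
    · rw [Finset.sum_range_succ']
      have h1 : b - (∑ j ∈ Finset.range N, c j * π ^ (j + 1) + c₀ * π ^ 0) =
          π * (b' - ∑ j ∈ Finset.range N, c j * π ^ j) := by
        rw [mul_sub, ← hb', Finset.mul_sum]
        have h2 : ∑ j ∈ Finset.range N, c j * π ^ (j + 1) =
            ∑ j ∈ Finset.range N, π * (c j * π ^ j) := by
          refine Finset.sum_congr rfl fun j _ => ?_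
          ring
        rw [h2]
        ring
      change b - (∑ j ∈ Finset.range N, c j * π ^ (j + 1) + c₀ * π ^ 0) ∈ _
      rw [h1, pow_succ']
      exact Ideal.mul_mem_mul ((mem_maximalIdeal _).2 hπ.not_isUnit) hcb

omit [IsDomain O] [IsDiscreteValuationRing O] in
theorem φ_sum_sub (g : Γ) {π : O} {N : ℕ} {c : ℕ → O} (hc : ∀ j g, A.φ g (c j) = c j) :
    (A.φ g π - π) ∣ A.φ g (∑ j ∈ Finset.range N, c j * π ^ j) - ∑ j ∈ Finset.range N, c j * π ^ j := by
  rw [map_sum, ← Finset.sum_sub_distrib]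
  refine Finset.dvd_sum fun j _ => ?_
  rw [map_mul, map_pow, hc, ← mul_sub]
  exact Dvd.dvd.mul_left (sub_dvd_pow_sub_pow _ _ j) _

theorem dvd_sub (hA : Res A) {π : O} (hπ : Irreducible π) (g : Γ) (b : O) :
    (A.φ g π - π) ∣ A.φ g b - b := by
  refine dvd_of_forall fun N => ?_
  obtain ⟨c, hc, hb⟩ := approx A hA hπ N b
  have h1 : A.φ g b - b = (A.φ g (∑ j ∈ Finset.range N, c j * π ^ j) -
      ∑ j ∈ Finset.range N, c j * π ^ j) + (A.φ g (b - ∑ j ∈ Finset.range N, c j * π ^ j) -
        (b - ∑ j ∈ Finset.range N, c j * π ^ j)) := by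
    rw [map_sub]
    ring
  rw [h1]
  refine Submodule.add_mem_sup (Ideal.mem_span_singleton.2 (φ_sum_sub A g hc)) ?_
  exact Submodule.sub_mem _ (A.map_pow_mem g N hb) hb

theorem le_addVal_sub (hA : Res A) {π : O} (hπ : Irreducible π) (g : Γ) (b : O) :
    addVal O (A.φ g π - π) ≤ addVal O (A.φ g b - b) :=
  addVal_le_iff_dvd.2 (dvd_sub A hA hπ g b)

theorem mem_ram_iff (hA : Res A) {π : O} (hπ : Irreducible π) {n : ℕ} {g : Γ} :
    g ∈ A.ram n ↔ ((n + 1 : ℕ) : ℕ∞) ≤ addVal O (A.φ g π - π) := by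
  rw [A.mem_ram]
  constructor
  · intro h
    exact mem_pow_iff.1 (h π)
  · intro h b
    exact mem_pow_iff.2 (h.trans (le_addVal_sub A hA hπ g b))

theorem mem_ram_zero (hA : Res A) (g : Γ) : g ∈ A.ram 0 := by
  rw [A.mem_ram]
  intro b
  rw [zero_add, pow_one]
  obtain ⟨c, hc, hb⟩ := hA b
  have h1 : A.φ g b - b = A.φ g (b - c) - (b - c) := by
    rw [map_sub, hc]
    ring
  rw [h1]
  have hb' : b - c ∈ maximalIdeal O ^ 1 := by rwa [pow_one]
  have := A.map_pow_mem g 1 hb'
  rw [pow_one] at this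
  exact Submodule.sub_mem _ this hb

theorem eq_id_of_addVal_eq_top (hA : Res A) {π : O} (hπ : Irreducible π) {g : Γ}
    (h : addVal O (A.φ g π - π) = ⊤) : A.φ g = RingHom.id O := by
  refine A.eq_id_of_forall_mem fun i => ?_
  rw [mem_ram_iff A hA hπ, h]
  exact le_top

end

end Groth.Agent.Vancyc.H163.RamDVR
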