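import Groth.Agent.Vancyc.H163.Herbrand
import Groth.Agent.Sga4h.TameExt

/-!
# Finite Galois extensions of the fraction field of a strictly henselian discrete valuation ring

`R` a strictly henselian discrete valuation ring with algebraically closed residue field, `K = Frac R`,
`L / K` finite Galois. `act R K L` is the contravariant action of `Gal(L/K)` on the integral closure of `R` in `L`,
`tower` the tower attached to `K ⊆ L₁ ⊆ L`.
-/

set_option autoImplicit false
set_option linter.unusedSectionVars false

universe u

namespace Groth.Agent.Vancyc.H163.TraitField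

open IsLocalRing IsDiscreteValuationRing Groth.Agent.Sga5.H833.RamAlg RamDVR HerbrandDVR

section act

variable (R K L : Type u) [CommRing R] [Field K] [Algebra R K] [Field L] [Algebra K L] [Algebra R L]
  [IsScalarTower R K L]

/-- The integral closure of `R` in `L`. -/
abbrev OO (R L : Type u) [CommRing R] [Field L] [Algebra R L] : Type u := integralClosure R L

/-- The contravariant action of the Galois group on the integral closure. -/
noncomputable def act : CAct (L ≃ₐ[K] L) (OO R L) where
  φ σ := ((σ⁻¹.restrictScalars R).mapIntegralClosure : OO R L ≃ₐ[R] OO R L).toRingEquiv.toRingHom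
  one := by
    ext a
    rfl
  mul σ τ := by
    ext a
    change (σ * τ)⁻¹ (a : L) = τ⁻¹ (σ⁻¹ (a : L))
    rw [mul_inv_rev]
    rfl

theorem coe_act (σ : L ≃ₐ[K] L) (a : OO R L) : (((act R K L).φ σ a : OO R L) : L) = σ⁻¹ (a : L) := rfl

end act

section dvr

variable (R K L : Type u) [CommRing R] [IsDomain R] [IsDiscreteValuationRing R] [Field K] [Algebra R K]
  [IsFractionRing R K] [Field L] [Algebra K L] [Algebra R L] [IsScalarTower R K L]
  [FiniteDimensional K L] [Algebra.IsSeparable K L] (hR : EtCoh.IsStrictlyHenselianLocalRing R)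
  [IsAlgClosed (ResidueField R)]

include K in
theorem isFractionRing : IsFractionRing (OO R L) L := Sga4h.TameExt.isFractionRing R K L

include K hR in
theorem isDVR : IsDiscreteValuationRing (OO R L) := Sga4h.TameExt.isDiscreteValuationRing R K L hR

include K in
theorem injective_algebraMap : Function.Injective (algebraMap R (OO R L)) := by
  have := Sga4h.TameExt.faithfulSMul R K L
  exact FaithfulSMul.algebraMap_injective R (OO R L)

include K hR in
/-- The residue field does not change. -/
theorem exists_sub_mem [IsLocalRing (OO R L)] (b : OO R L) :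
    ∃ r : R, b - algebraMap R (OO R L) r ∈ maximalIdeal (OO R L) := by
  have hfin : Module.Finite R (OO R L) := Sga4h.TameExt.module_finite R K L
  have hint : Algebra.IsIntegral R (OO R L) := inferInstance
  have hlh : IsLocalHom (algebraMap R (OO R L)) := by
    have := Sga4h.TameExt.faithfulSMul R K L
    infer_instance
  have h1 : Algebra.IsIntegral (ResidueField R) (ResidueField (OO R L)) := by
    refine ⟨fun x => ?_⟩
    obtain ⟨y, rfl⟩ := residue_surjective x
    have h2 := (Algebra.IsIntegral.isIntegral (R := R) y).map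
      (IsScalarTower.toAlgHom R (OO R L) (ResidueField (OO R L)))
    exact h2.tower_top
  obtain ⟨c, hc⟩ := (IsAlgClosed.algebraMap_bijective_of_isIntegral
    (k := ResidueField R) (K := ResidueField (OO R L))).2 (residue _ b)
  obtain ⟨r, rfl⟩ := residue_surjective c
  refine ⟨r, ?_⟩
  rw [← residue_eq_zero_iff, map_sub, sub_eq_zero, ← hc]
  rfl

include hR in
theorem res [IsLocalRing (OO R L)] : Res (act R K L) := by
  intro b
  obtain ⟨r, hr⟩ := exists_sub_mem R K L hR b
  refine ⟨algebraMap R (OO R L) r, fun σ => ?_, hr⟩
  apply Subtype.ext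
  rw [coe_act]
  change σ⁻¹ (algebraMap R L r) = algebraMap R L r
  rw [IsScalarTower.algebraMap_apply R K L, AlgEquiv.commutes]

theorem faithful (σ : L ≃ₐ[K] L) (h : (act R K L).φ σ = RingHom.id (OO R L)) : σ = 1 := by
  have hF := isFractionRing R K L
  have h1 : ∀ x : L, σ⁻¹ x = x := by
    intro x
    obtain ⟨a, b, hb, rfl⟩ := IsFractionRing.div_surjective (A := OO R L) x
    have h2 : ∀ a : OO R L, σ⁻¹ (algebraMap (OO R L) L a) = algebraMap (OO R L) L a := fun a => by
      have := congrArg (fun z : OO R L => (z : L)) (RingHom.congr_fun h a)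
      exact this
    rw [map_div₀, h2, h2]
  have h2 : σ⁻¹ = 1 := AlgEquiv.ext h1
  exact inv_eq_one.1 h2

end dvr

section tower

variable (R K L₁ L : Type u) [CommRing R] [IsDomain R] [IsDiscreteValuationRing R] [Field K] [Algebra R K]
  [IsFractionRing R K] [Field L₁] [Algebra K L₁] [Algebra R L₁] [IsScalarTower R K L₁]
  [Field L] [Algebra K L] [Algebra R L] [IsScalarTower R K L]
  [Algebra L₁ L] [IsScalarTower K L₁ L] [IsScalarTower R L₁ L]
  [FiniteDimensional K L₁] [IsGalois K L₁]
  [FiniteDimensional K L] [IsGalois K L] (hR : EtCoh.IsStrictlyHenselianLocalRing R)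
  [IsAlgClosed (ResidueField R)]

/-- The tower of discrete valuation rings attached to a tower of Galois extensions. -/
noncomputable def tower [IsLocalRing (OO R L)] : Tower (L₁ ≃ₐ[K] L₁) (L ≃ₐ[K] L) (OO R L₁) (OO R L) where
  A₁ := act R K L₁
  A₂ := act R K L
  p := AlgEquiv.restrictNormalHom L₁
  i := ((IsScalarTower.toAlgHom R L₁ L).mapIntegralClosure : OO R L₁ →ₐ[R] OO R L).toRingHom
  surj := AlgEquiv.restrictNormalHom_surjective L
  comm σ a := by
    apply Subtype.ext
    rw [coe_act]
    change σ⁻¹ (algebraMap L₁ L a) = algebraMap L₁ L ((AlgEquiv.restrictNormalHom L₁ σ)⁻¹ a)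
    rw [← map_inv]
    exact (AlgEquiv.restrictNormal_commutes σ⁻¹ L₁ a).symm
  faithful := faithful R K L
  inv b hb := by
    have h1 : (b : L) ∈ (⊥ : IntermediateField L₁ L) := by
      have : IsGalois L₁ L := IsGalois.tower_top_of_isGalois K L₁ L
      have : FiniteDimensional L₁ L := Module.Finite.of_restrictScalars_finite K L₁ L
      rw [IsGalois.mem_bot_iff_fixed]
      intro τ
      have h2 : (AlgEquiv.restrictNormalHom L₁) ((τ⁻¹).restrictScalars K) = 1 := by
        ext x
        apply (algebraMap L₁ L).injective
        refine (AlgEquiv.restrictNormal_commutes ((τ⁻¹).restrictScalars K) L₁ x).trans ?_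
        exact (τ⁻¹).commutes x
      have h3 := congrArg (fun z : OO R L => (z : L)) (hb _ h2)
      have h4 : ((τ⁻¹).restrictScalars K)⁻¹ (b : L) = (b : L) := h3
      have h5 : ((τ⁻¹).restrictScalars K : L ≃ₐ[K] L)⁻¹ = τ.restrictScalars K := by
        rw [inv_eq_iff_mul_eq_one]
        ext x
        exact (AlgEquiv.symm_apply_apply τ x)
      rw [h5] at h4
      exact h4
    obtain ⟨a, ha⟩ := IntermediateField.mem_bot.1 h1
    refine ⟨⟨a, ?_⟩, Subtype.ext ha⟩
    have h6 : IsIntegral R (algebraMap L₁ L a) := by
      rw [ha]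
      exact b.2
    exact (isIntegral_algebraMap_iff (algebraMap L₁ L).injective).1 h6
  inj a b h := by
    apply Subtype.ext
    exact (algebraMap L₁ L).injective (congrArg (fun z : OO R L => (z : L)) h)
  res := res R K L hR

end tower

section deg

variable (R K L : Type u) [CommRing R] [IsDomain R] [IsDiscreteValuationRing R] [Field K] [Algebra R K]
  [IsFractionRing R K] [Field L] [Algebra K L] [Algebra R L] [IsScalarTower R K L]
  [FiniteDimensional K L] [IsGalois K L] (hR : EtCoh.IsStrictlyHenselianLocalRing R)
  [IsAlgClosed (ResidueField R)]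

/-- The integral closure of `R` in `K` is `R`. -/
theorem bijective_self : Function.Bijective (algebraMap R (OO R K)) := by
  refine ⟨injective_algebraMap R K K, fun x => ?_⟩
  obtain ⟨r, hr⟩ := IsIntegrallyClosed.isIntegral_iff.1 x.2
  exact ⟨r, Subtype.ext hr⟩

include hR in
/-- Total ramification. -/
theorem addVal_uniformizer [IsDiscreteValuationRing (OO R L)] {π : R} (hπ : Irreducible π) :
    addVal (OO R L) (algebraMap R (OO R L) π) = (Module.finrank K L : ℕ∞) := by
  have hD : IsDiscreteValuationRing (OO R K) := isDVR R K K hR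
  let T := tower R K K L hR
  have hf : Fintype T.p.ker := Fintype.ofFinite _
  have h1 : Irreducible (algebraMap R (OO R K) π) :=
    (MulEquiv.irreducible_iff (RingEquiv.ofBijective _ (bijective_self R K)).toMulEquiv).2 hπ
  have h2 := T.addVal_i_uniformizer h1
  have h3 : T.i (algebraMap R (OO R K) π) = algebraMap R (OO R L) π := by
    apply Subtype.ext
    change algebraMap K L (algebraMap R K π) = algebraMap R L π
    rw [← IsScalarTower.algebraMap_apply]
  have h4 : T.p.ker = ⊤ := by
    rw [eq_top_iff]
    intro σ _
    exact Subsingleton.elim (α := (K ≃ₐ[K] K)) _ _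
  rw [h3] at h2
  rw [h2, ← Nat.card_eq_fintype_card, h4, Subgroup.card_top, IsGalois.card_aut_eq_finrank]

end deg

end Groth.Agent.Vancyc.H163.TraitField
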